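import Cfsg.Agent.Core.PCore
import Cfsg.Agent.Core.Basics
import Cfsg.Agent.S1250
import Cfsg.Agent.Invol.Isolated
import Cfsg.Agent.Invol.SylowConj
import Cfsg.Prelude.Def_TwoFusion
import Cfsg.Prelude.Def_Local

/-!
Product fusion: two commuting, disjoint, strongly closed 2-subgroups. Basic vocabulary.
-/

set_option autoImplicit false

namespace Cfsg.Agent.ProdFusion

open Subgroup Cfsg
open scoped Pointwise commutatorElement

universe u

variable {G : Type u} [Group G]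

/-- The elements of `G` conjugate into `S`. -/
def Cls (S : Subgroup G) : Set G := {x | ∃ g : G, g * x * g⁻¹ ∈ S}

/-- Two commuting strongly closed subgroups with trivial intersection. -/
structure Setting (P : Sylow 2 G) (S₁ S₂ : Subgroup G) : Prop where
  sc₁ : IsStronglyClosed S₁ (P : Subgroup G)
  sc₂ : IsStronglyClosed S₂ (P : Subgroup G)
  comm : ∀ a ∈ S₁, ∀ b ∈ S₂, a * b = b * a
  disj : S₁ ⊓ S₂ = ⊥

variable {P : Sylow 2 G} {S S₁ S₂ : Subgroup G}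

theorem Setting.symm (h : Setting P S₁ S₂) : Setting P S₂ S₁ :=
  ⟨h.sc₂, h.sc₁, fun a ha b hb => (h.comm b hb a ha).symm, by rw [inf_comm]; exact h.disj⟩

theorem mem_cls_of_mem {x : G} (hx : x ∈ S) : x ∈ Cls S := ⟨1, by simpa using hx⟩

theorem cls_conj {x : G} (hx : x ∈ Cls S) (g : G) : g * x * g⁻¹ ∈ Cls S := by
  obtain ⟨k, hk⟩ := hx
  exact ⟨k * g⁻¹, by simpa [mul_assoc] using hk⟩

theorem mem_of_cls (h : IsStronglyClosed S (P : Subgroup G)) {x : G} (hx : x ∈ Cls S) (hP : x ∈ P) :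
    x ∈ S := by
  obtain ⟨g, hg⟩ := hx
  have h1 : g⁻¹ * (g * x * g⁻¹) * g⁻¹⁻¹ = x := by group
  have h2 := h.2 _ hg g⁻¹
  rw [h1] at h2
  exact h2 hP

theorem cls_le_normalClosure {x : G} (hx : x ∈ Cls S) : x ∈ normalClosure (S : Set G) := by
  obtain ⟨g, hg⟩ := hx
  have h := normalClosure_normal.conj_mem _ (subset_normalClosure (s := (S : Set G)) hg) g⁻¹
  simpa [mul_assoc] using h

theorem isPGroup_zpowers_of_cls [Finite G] (h : IsStronglyClosed S (P : Subgroup G)) {x : G}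
    (hx : x ∈ Cls S) : ∃ j, orderOf x = 2 ^ j := by
  obtain ⟨g, hg⟩ := hx
  obtain ⟨j, hj⟩ := IsPGroup.iff_orderOf.1 P.2 ⟨_, h.1 hg⟩
  rw [Subgroup.orderOf_mk, Invol.orderOf_conj] at hj
  exact ⟨j, hj⟩

theorem Setting.cls_inter (h : Setting P S₁ S₂) {x : G} (h1 : x ∈ Cls S₁) (h2 : x ∈ Cls S₂) :
    x = 1 := by
  obtain ⟨g, hg⟩ := h1
  have h3 := mem_of_cls h.sc₂ (cls_conj h2 g) (h.sc₁.1 hg)
  have h4 : g * x * g⁻¹ ∈ S₁ ⊓ S₂ := ⟨hg, h3⟩
  rw [h.disj, Subgroup.mem_bot, conj_eq_one_iff] at h4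
  exact h4

/-- `S` is normalised by the normaliser of any subgroup of `P` containing it. -/
theorem conj_mem_of_normalizes (h : IsStronglyClosed S (P : Subgroup G)) {T : Subgroup G}
    (hST : S ≤ T) (hTP : T ≤ P) {g : G} (hg : g ∈ normalizer (T : Set G)) {x : G} (hx : x ∈ S) :
    g * x * g⁻¹ ∈ S :=
  h.2 x hx g (hTP ((mem_normalizer_iff.1 hg x).1 (hST hx)))

theorem sylow_conj_mem (h : IsStronglyClosed S (P : Subgroup G)) {g : G} (hg : g ∈ P) {x : G}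
    (hx : x ∈ S) : g * x * g⁻¹ ∈ S :=
  h.2 x hx g (mul_mem (mul_mem hg (h.1 hx)) (inv_mem hg))

/-- The statement proved by induction. -/
def CT (G : Type u) [Group G] : Prop :=
  ∀ (P : Sylow 2 G) (S₁ S₂ : Subgroup G), Setting P S₁ S₂ →
    ∀ a ∈ Cls S₁, ∀ b ∈ Cls S₂, ⁅a, b⁆ ∈ oddCore G

/-- The statement for all groups of order less than `n`. -/
def CTBelow (n : ℕ) : Prop :=
  ∀ (X : Type u) [Group X] [Finite X], Nat.card X < n → CT X

/-- The setting inherited by a subgroup. -/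
theorem exists_setting_subgroup [Finite G] (h : Setting P S₁ S₂) (H : Subgroup G) :
    ∃ (R : Sylow 2 ↥H) (T₁ T₂ : Subgroup ↥H), Setting R T₁ T₂ ∧
      (∀ a : ↥H, (a : G) ∈ Cls S₁ → a ∈ Cls T₁) ∧
      (∀ a : ↥H, (a : G) ∈ Cls S₂ → a ∈ Cls T₂) := by
  obtain ⟨R⟩ := (inferInstance : Nonempty (Sylow 2 ↥H))
  obtain ⟨Q, hQ⟩ := (R.2.map H.subtype).exists_le_sylow
  obtain ⟨g, hg⟩ := MulAction.exists_smul_eq G Q P
  have hgP : ∀ x : ↥H, x ∈ R → g * (x : G) * g⁻¹ ∈ P := fun x hx => by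
    rw [← hg]
    show g * (x : G) * g⁻¹ ∈ ((g • Q : Sylow 2 G) : Subgroup G)
    rw [Sylow.coe_subgroup_smul]
    exact ⟨x, hQ ⟨x, hx, rfl⟩, rfl⟩
  let T : Subgroup G → Subgroup ↥H := fun S =>
    (R : Subgroup ↥H) ⊓ S.comap ((MulAut.conj g).toMonoidHom.comp H.subtype)
  have hT : ∀ (S : Subgroup G) (x : ↥H), x ∈ T S ↔ x ∈ R ∧ g * (x : G) * g⁻¹ ∈ S :=
    fun S x => Iff.rfl
  have hsc : ∀ S : Subgroup G, IsStronglyClosed S (P : Subgroup G) →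
      IsStronglyClosed (T S) (R : Subgroup ↥H) := fun S hS =>
    ⟨inf_le_left, fun x hx k hk => (hT S _).2 ⟨hk, mem_of_cls hS
      (cls_conj (cls_conj (x := (x : G)) ⟨g, ((hT S x).1 hx).2⟩ (k : G)) g) (hgP _ hk)⟩⟩
  have hcls : ∀ S : Subgroup G, IsStronglyClosed S (P : Subgroup G) →
      ∀ a : ↥H, (a : G) ∈ Cls S → a ∈ Cls (T S) := fun S hS a ha => by
    obtain ⟨j, hj⟩ := isPGroup_zpowers_of_cls hS ha
    obtain ⟨k, hk⟩ := Invol.exists_conj_mem_of_isPGroup R (x := a)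
      ⟨j, by rwa [← Subgroup.orderOf_coe]⟩
    exact ⟨k, (hT S _).2 ⟨hk, mem_of_cls hS (cls_conj (cls_conj ha (k : G)) g) (hgP _ hk)⟩⟩
  refine ⟨R, T S₁, T S₂, ⟨hsc _ h.sc₁, hsc _ h.sc₂, fun a ha b hb => ?_, ?_⟩,
    hcls _ h.sc₁, hcls _ h.sc₂⟩
  · have e := h.comm _ ((hT S₁ a).1 ha).2 _ ((hT S₂ b).1 hb).2
    refine Subtype.ext ((MulAut.conj g).injective ?_)
    rw [Subgroup.coe_mul, Subgroup.coe_mul, map_mul, map_mul]
    exact e
  · refine (eq_bot_iff_forall _).2 fun x hx => ?_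
    have e : g * (x : G) * g⁻¹ ∈ S₁ ⊓ S₂ := ⟨((hT S₁ x).1 hx.1).2, ((hT S₂ x).1 hx.2).2⟩
    rw [h.disj, Subgroup.mem_bot, conj_eq_one_iff] at e
    exact Subtype.ext e

/-- Induction in a proper subgroup. -/
theorem Setting.comm_mem_core [Finite G] (h : Setting P S₁ S₂) (ih : CTBelow.{u} (Nat.card G))
    {H : Subgroup G} (hH : H ≠ ⊤) {a b : ↥H} (ha : (a : G) ∈ Cls S₁) (hb : (b : G) ∈ Cls S₂) :
    ⁅a, b⁆ ∈ oddCore ↥H := by
  obtain ⟨R, T₁, T₂, hT, h1, h2⟩ := exists_setting_subgroup h H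
  exact ih ↥H (Core.card_lt_of_ne_top hH) R T₁ T₂ hT a (h1 a ha) b (h2 b hb)

/-- The setting in a quotient by an odd or harmless normal subgroup. -/
theorem Setting.map_mk [Finite G] (h : Setting P S₁ S₂) (N : Subgroup G) [N.Normal]
    (hdisj : ∀ a ∈ S₁, ∀ b ∈ S₂, a * b ∈ N → a ∈ N) :
    Setting (Sylow.mapSurjective (QuotientGroup.mk'_surjective N) P)
      (S₁.map (QuotientGroup.mk' N)) (S₂.map (QuotientGroup.mk' N)) := by
  refine ⟨?_, ?_, ?_, ?_⟩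
  · exact S1250.result P S₁ h.sc₁ N
  · exact S1250.result P S₂ h.sc₂ N
  · rintro _ ⟨a, ha, rfl⟩ _ ⟨b, hb, rfl⟩
    rw [← map_mul, ← map_mul, h.comm a ha b hb]
  · refine (eq_bot_iff_forall _).2 ?_
    rintro _ ⟨⟨a, ha, rfl⟩, b, hb, hba⟩
    refine (QuotientGroup.eq_one_iff a).2 (hdisj a ha b⁻¹ (inv_mem hb) ?_)
    rw [← QuotientGroup.eq_one_iff, ← QuotientGroup.mk'_apply, map_mul, map_inv, hba, mul_inv_cancel]

theorem cls_map {H : Type u} [Group H] (f : G →* H) {x : G} (hx : x ∈ Cls S) :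
    f x ∈ Cls (S.map f) := by
  obtain ⟨g, hg⟩ := hx
  exact ⟨f g, g * x * g⁻¹, hg, by simp⟩

end Cfsg.Agent.ProdFusion
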