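import Cfsg.Agent.ProdFusion.Main
import Cfsg.Agent.Thompson.Stable
import Mathlib.GroupTheory.Transfer

/-!
Product fusion with a Sylow subgroup which is the product of the two factors.
-/

set_option autoImplicit false
set_option linter.style.haveILetI false

namespace Cfsg.Agent.ProdFusion

open Subgroup Cfsg
open scoped Pointwise commutatorElement

universe u

variable {G : Type u} [Group G] [Finite G] {P : Sylow 2 G} {S₁ S₂ : Subgroup G}

omit [Finite G] in
theorem Setting.unique (h : Setting P S₁ S₂) {a a' b b' : G} (ha : a ∈ S₁) (ha' : a' ∈ S₁)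
    (hb : b ∈ S₂) (hb' : b' ∈ S₂) (e : a * b = a' * b') : b = b' := by
  have hm : b' * b⁻¹ ∈ S₁ ⊓ S₂ := by
    refine ⟨?_, S₂.mul_mem hb' (S₂.inv_mem hb)⟩
    rw [show b' * b⁻¹ = a'⁻¹ * (a' * b') * b⁻¹ by group, ← e, mul_assoc, mul_assoc a,
      mul_inv_cancel, mul_one]
    exact S₁.mul_mem (S₁.inv_mem ha') ha
  rw [h.disj, Subgroup.mem_bot, mul_inv_eq_one] at hm
  exact hm.symm

omit [Finite G] in
theorem Setting.decomp (h : Setting P S₁ S₂) (hsup : S₁ ⊔ S₂ = (P : Subgroup G)) {x : G}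
    (hx : x ∈ P) : ∃ a ∈ S₁, ∃ b ∈ S₂, a * b = x := by
  have hn : S₂ ≤ normalizer (S₁ : Set G) :=
    le_trans (fun b hb => mem_centralizer_iff.2 fun a ha => h.comm a ha b hb)
      (centralizer_le_normalizer _)
  exact (Coprime.mem_sup_of_le_normalizer hn).1 (show x ∈ S₁ ⊔ S₂ by rw [hsup]; exact hx)

theorem Setting.closures_commute (h : Setting P S₁ S₂) (hO : oddCore G = ⊥) {x y : G}
    (hx : x ∈ normalClosure (S₁ : Set G)) (hy : y ∈ normalClosure (S₂ : Set G)) : x * y = y * x := by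
  have e := commutator_normalClosure_le h (commutator_mem_commutator hx hy)
  rw [hO, Subgroup.mem_bot, commutatorElement_eq_one_iff_mul_comm] at e
  exact e

theorem Setting.relIndex_closure_odd (S : Subgroup G) :
    ¬ 2 ∣ (P : Subgroup G).relIndex (normalClosure (S : Set G)) := by
  haveI : Fact (Nat.Prime 2) := ⟨Nat.prime_two⟩
  exact Thompson.not_dvd_relIndex_sylow P _

/-- The transfer shows that the first closure meets the second factor trivially. -/
theorem Setting.inf_closure_eq_bot (h : Setting P S₁ S₂) (hO : oddCore G = ⊥)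
    (hsup : S₁ ⊔ S₂ = (P : Subgroup G)) : S₂ ⊓ normalClosure (S₁ : Set G) = ⊥ := by
  classical
  haveI : Fact (Nat.Prime 2) := ⟨Nat.prime_two⟩
  set N := normalClosure (S₁ : Set G) with hN
  set T := (S₂ ⊓ N).subgroupOf N with hT
  set H := (P : Subgroup G).subgroupOf N with hH
  have hTc : ∀ t ∈ T, ∀ n : ↥N, n * t = t * n := fun t ht n =>
    Subtype.ext (h.closures_commute hO n.2 (subset_normalClosure ht.1))
  letI : CommGroup ↥T :=
    { (inferInstance : Group ↥T) with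
      mul_comm := fun a b => Subtype.ext (hTc _ b.2 a) }
  have hdec : ∀ x : ↥H, ∃ b : ↥T, ∃ a ∈ S₁, a * ((b : ↥N) : G) = ((x : ↥N) : G) := fun x => by
    obtain ⟨a, ha, b, hb, hab⟩ := h.decomp hsup (mem_subgroupOf.1 x.2)
    have hbN : b ∈ N := by
      rw [show b = a⁻¹ * ((x : ↥N) : G) by rw [← hab, inv_mul_cancel_left]]
      exact mul_mem (inv_mem (subset_normalClosure ha)) (x : ↥N).2
    exact ⟨⟨⟨b, hbN⟩, ⟨hb, hbN⟩⟩, a, ha, hab⟩
  choose f a haS haf using hdec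
  have funiq : ∀ (x : ↥H) (b : ↥T), (∃ a' ∈ S₁, a' * ((b : ↥N) : G) = ((x : ↥N) : G)) → f x = b := by
    rintro x b ⟨a', ha', e⟩
    exact Subtype.ext (Subtype.ext (h.unique (haS x) ha' (f x).2.1 b.2.1 ((haf x).trans e.symm)))
  let φ : ↥H →* ↥T :=
    { toFun := f
      map_one' := funiq 1 1 ⟨1, one_mem _, by simp⟩
      map_mul' := fun x y => funiq _ _ ⟨a x * a y, mul_mem (haS x) (haS y), by
        simp only [Subgroup.coe_mul]
        rw [← haf x, ← haf y]
        rw [show a x * a y * (((f x : ↥N) : G) * ((f y : ↥N) : G)) =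
          a x * (a y * ((f x : ↥N) : G)) * ((f y : ↥N) : G) by group]
        have hc' : a y * ((f x : ↥N) : G) = ((f x : ↥N) : G) * a y :=
          h.comm _ (haS y) _ (f x).2.1
        rw [hc']
        group⟩ }
  have hker : ∀ c : ↥N, (c : G) ∈ Cls S₁ → MonoidHom.transfer φ c = 1 := fun c hc => by
    letI : Fintype (Quotient (MulAction.orbitRel (zpowers c) (↥N ⧸ H))) := Fintype.ofFinite _
    rw [MonoidHom.transfer_eq_prod_quotient_orbitRel_zpowers_quot]
    refine Finset.prod_eq_one fun q _ => ?_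
    set g₀ := q.out.out
    set k := Function.minimalPeriod (c • ·) q.out
    refine funiq _ 1 ⟨((g₀⁻¹ * c ^ k * g₀ : ↥N) : G), ?_, by simp [g₀, k]⟩
    refine mem_of_cls h.sc₁ ?_ (mem_subgroupOf.1
      (QuotientGroup.out_conj_pow_minimalPeriod_mem H c q.out))
    obtain ⟨g, hg⟩ := hc
    refine ⟨g * (g₀ : G), ?_⟩
    have e : g * (g₀ : G) * ((g₀⁻¹ * c ^ k * g₀ : ↥N) : G) * (g * (g₀ : G))⁻¹ =
        (g * (c : G) * g⁻¹) ^ k := by
      rw [conj_pow]; simp [mul_assoc]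
    rw [e]
    exact pow_mem hg k
  have hall : ∀ (n : G) (hn : n ∈ N), MonoidHom.transfer φ ⟨n, hn⟩ = 1 := fun n hn => by
    refine closure_induction (p := fun n hn => MonoidHom.transfer φ (⟨n, hn⟩ : ↥N) = 1) ?_
      (map_one (MonoidHom.transfer φ)) ?_ ?_
      (show n ∈ closure (Group.conjugatesOfSet (S₁ : Set G)) from hn)
    · intro c hc
      obtain ⟨c₀, hc₀, hcon⟩ := Group.mem_conjugatesOfSet_iff.1 hc
      obtain ⟨g, rfl⟩ := isConj_iff.1 hcon
      exact hker _ (cls_conj (mem_cls_of_mem hc₀) g)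
    · intro p q hp hq h1 h2
      have := map_mul (MonoidHom.transfer φ) (⟨p, hp⟩ : ↥N) ⟨q, hq⟩
      rw [h1, h2, one_mul] at this
      exact this
    · intro p hp h1
      have := map_inv (MonoidHom.transfer φ) (⟨p, hp⟩ : ↥N)
      rw [h1, inv_one] at this
      exact this
  refine (eq_bot_iff_forall _).2 fun t ht => ?_
  have htT : (⟨t, ht.2⟩ : ↥N) ∈ T := ht
  have e := MonoidHom.transfer_eq_pow φ (⟨t, ht.2⟩ : ↥N) fun k g₀ _ => by
    rw [mul_assoc, ← hTc _ (pow_mem htT k) g₀, inv_mul_cancel_left]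
  rw [hall t ht.2] at e
  have e2 : (⟨t, ht.2⟩ : ↥N) ^ H.index = 1 := by
    have := funiq ⟨(⟨t, ht.2⟩ : ↥N) ^ H.index, by
      exact mem_subgroupOf.2 (h.sc₂.1 (S₂.pow_mem ht.1 _))⟩ ⟨_, pow_mem htT H.index⟩
      ⟨1, one_mem _, one_mul _⟩
    exact congrArg Subtype.val (this.symm.trans e.symm)
  obtain ⟨j, hj⟩ := isPGroup_zpowers_of_cls h.sc₂ (mem_cls_of_mem ht.1)
  have hidx : (H.index).Coprime (2 ^ j) := Nat.Coprime.pow_right j
    (Nat.coprime_comm.1 ((Nat.prime_two.coprime_iff_not_dvd).2 (Setting.relIndex_closure_odd S₁)))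
  exact orderOf_eq_one_iff.1 (Nat.eq_one_of_dvd_coprimes hidx
    (orderOf_dvd_of_pow_eq_one (congrArg Subtype.val e2)) hj.dvd)

theorem Setting.mem_sylow_iff (h : Setting P S₁ S₂) (hO : oddCore G = ⊥)
    (hsup : S₁ ⊔ S₂ = (P : Subgroup G)) {x : G} (hx : x ∈ normalClosure (S₁ : Set G)) :
    x ∈ P ↔ x ∈ S₁ := by
  refine ⟨fun hP => ?_, fun hS => h.sc₁.1 hS⟩
  obtain ⟨a, ha, b, hb, rfl⟩ := h.decomp hsup hP
  have hb1 : b ∈ S₂ ⊓ normalClosure (S₁ : Set G) :=
    ⟨hb, ((normalClosure (S₁ : Set G)).mul_mem_cancel_left (subset_normalClosure ha)).1 hx⟩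
  rw [h.inf_closure_eq_bot hO hsup, Subgroup.mem_bot] at hb1
  rw [hb1, mul_one]
  exact ha

theorem Setting.closures_disjoint (h : Setting P S₁ S₂) (hO : oddCore G = ⊥)
    (hsup : S₁ ⊔ S₂ = (P : Subgroup G)) :
    normalClosure (S₁ : Set G) ⊓ normalClosure (S₂ : Set G) = ⊥ := by
  haveI : Fact (Nat.Prime 2) := ⟨Nat.prime_two⟩
  set Z := normalClosure (S₁ : Set G) ⊓ normalClosure (S₂ : Set G) with hZ
  haveI : Z.Normal := by rw [hZ]; infer_instance
  have hO' : pPrimeCore 2 ↥Z = ⊥ := by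
    have h1 : (pPrimeCore 2 ↥Z).map Z.subtype = ⊥ := by
      rw [Core.map_pPrimeCore_normal, show pPrimeCore 2 G = ⊥ from hO, bot_inf_eq]
    exact (map_eq_bot_iff_of_injective _ Z.subtype_injective).1 h1
  have hp : IsPGroup 2 ↥Z := by
    refine IsPGroup.iff_orderOf.2 fun z => ?_
    obtain ⟨a, b, hb, hab⟩ := Nat.exists_eq_two_pow_mul_odd (n := orderOf z) (orderOf_pos _).ne'
    haveI : (zpowers (z ^ 2 ^ a)).Normal := ⟨fun x hx y => by
      obtain ⟨i, rfl⟩ := mem_zpowers_iff.1 hx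
      rw [show y * (z ^ 2 ^ a) ^ i * y⁻¹ = (z ^ 2 ^ a) ^ i from mul_inv_eq_iff_eq_mul.2
        (Subtype.ext (h.closures_commute hO y.2.1 ((z ^ 2 ^ a) ^ i).2.2))]
      exact zpow_mem (mem_zpowers _) _⟩
    have hle : zpowers (z ^ 2 ^ a) ≤ pPrimeCore 2 ↥Z := Core.le_pPrimeCore (by
      rw [Nat.card_zpowers, orderOf_pow_of_dvd (by positivity) ⟨b, hab⟩, hab,
        Nat.mul_div_cancel_left _ (by positivity)]
      exact Nat.coprime_two_right.2 hb)
    rw [hO', le_bot_iff, zpowers_eq_bot] at hle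
    obtain ⟨i, -, hi⟩ := (Nat.dvd_prime_pow Nat.prime_two).1 (orderOf_dvd_of_pow_eq_one hle)
    exact ⟨i, hi⟩
  refine (eq_bot_iff_forall _).2 fun z hz => ?_
  have hzP : z ∈ P := Core.pCore_le_sylow P (Core.le_pCore hp hz)
  have hsup' : S₂ ⊔ S₁ = (P : Subgroup G) := by rw [sup_comm]; exact hsup
  have hm : z ∈ S₁ ⊓ S₂ :=
    ⟨(h.mem_sylow_iff hO hsup hz.1).1 hzP, (h.symm.mem_sylow_iff hO hsup' hz.2).1 hzP⟩
  rwa [h.disj, Subgroup.mem_bot] at hm

theorem Setting.sylow_odd (h : Setting P S₁ S₂) (hO : oddCore G = ⊥)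
    (hsup : S₁ ⊔ S₂ = (P : Subgroup G)) : Odd (S₁.relIndex (normalClosure (S₁ : Set G))) := by
  have e : (P : Subgroup G) ⊓ normalClosure (S₁ : Set G) = S₁ := le_antisymm
    (fun x hx => (h.mem_sylow_iff hO hsup hx.2).1 hx.1)
    (le_inf h.sc₁.1 fun x hx => subset_normalClosure hx)
  have e2 := inf_relIndex_right (P : Subgroup G) (normalClosure (S₁ : Set G))
  rw [e] at e2
  rw [e2]
  exact Nat.not_even_iff_odd.1 fun he => Setting.relIndex_closure_odd S₁ (even_iff_two_dvd.1 he)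

end Cfsg.Agent.ProdFusion
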