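import Cfsg.Agent.ProdFusion.Functor
import Cfsg.Agent.S2898
import Mathlib.Logic.Relation

/-!
Product fusion: no simple minimal counterexample exists.
-/

set_option autoImplicit false
set_option linter.style.haveILetI false

namespace Cfsg.Agent.ProdFusion

open Subgroup Cfsg
open scoped Pointwise commutatorElement

universe u

variable {G : Type u} [Group G] [Finite G] {P : Sylow 2 G} {S₁ S₂ : Subgroup G}

local notation "Core" x:max => centralizerPPrimeCore 2 x

omit [Finite G] in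
theorem mem_normalizer_iff_map {H : Subgroup G} {g : G} :
    g ∈ normalizer (H : Set G) ↔ H.map (MulAut.conj g).toMonoidHom = H :=
  mem_normalizer_iff_map_conj_eq

theorem four_mk {x x' : G} (hx : orderOf x = 2) (hx' : orderOf x' = 2) (hne : x ≠ x')
    (hc : Commute x x') :
    IsElementaryAbelian 2 (closure ({x, x'} : Set G)) ∧
      Nat.card (closure ({x, x'} : Set G)) = 4 := by
  classical
  haveI : Fact (Nat.Prime 2) := ⟨Nat.prime_two⟩
  have hcl : closure ({x, x'} : Set G) = zpowers x ⊔ zpowers x' := by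
    rw [Set.insert_eq, Subgroup.closure_union, ← zpowers_eq_closure, ← zpowers_eq_closure]
  haveI : IsMulCommutative ↥(closure ({x, x'} : Set G)) := isMulCommutative_closure (by
    rintro a (rfl | rfl) b (rfl | rfl)
    exacts [rfl, hc.eq, hc.symm.eq, rfl])
  refine ⟨⟨inferInstance, fun a ha => ?_⟩, ?_⟩
  · refine closure_induction (p := fun a _ => a ^ 2 = 1) ?_ (one_pow 2) ?_ ?_ ha
    · rintro a (rfl | rfl)
      · rw [pow_two]; exact Invol.mul_self_eq_one hx
      · rw [pow_two]; exact Invol.mul_self_eq_one hx'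
    · intro a b hma hmb h1 h2
      rw [Commute.mul_pow (congrArg Subtype.val
        (IsMulCommutative.is_comm.comm (⟨a, hma⟩ : ↥(closure ({x, x'} : Set G))) ⟨b, hmb⟩)), h1, h2,
        one_mul]
    · intro a _ h1; rw [inv_pow, h1, inv_one]
  · rw [hcl, Coprime.card_sup_eq_mul ((show zpowers x' ≤ centralizer ({x} : Set G) from
      zpowers_le.2 (mem_centralizer_of_commute hc.symm)).trans ?_) ?_, Nat.card_zpowers,
      Nat.card_zpowers, hx, hx']
    · rw [zpowers_eq_closure, ← centralizer_closure]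
      exact centralizer_le_normalizer _
    · refine (eq_bot_iff_forall _).2 fun t ht => ?_
      by_contra hne1
      have e1 := Invol.eq_of_mem_zpowers_of_orderOf_two (u := x) (v := t) hx ?_ (mem_zpowers x) ht.1
      · have e2 := Invol.eq_of_mem_zpowers_of_orderOf_two (u := x') (v := t) hx' ?_ (mem_zpowers x') ht.2
        · exact hne (e1.trans e2.symm)
        · rw [← e1]; exact hx
      · have := orderOf_dvd_natCard (⟨t, ht.1⟩ : zpowers x)
        rw [Subgroup.orderOf_mk, Nat.card_zpowers, hx] at this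
        rcases (Nat.dvd_prime Nat.prime_two).1 this with h | h
        · exact absurd (orderOf_eq_one_iff.1 h) hne1
        · exact h

omit [Finite G] in
/-- Four-groups inside `S₁`, `S₂` form a pair. -/
theorem Min.pair (h : Min P S₁ S₂) {E₁ E₂ : Subgroup G} (h1 : IsElementaryAbelian 2 E₁)
    (h2 : IsElementaryAbelian 2 E₂) (c1 : Nat.card E₁ = 4) (c2 : Nat.card E₂ = 4) (l1 : E₁ ≤ S₁)
    (l2 : E₂ ≤ S₂) : Pair S₁ S₂ E₁ E₂ :=
  ⟨h1, h2, c1, c2, fun _ he => mem_cls_of_mem (l1 he), fun _ he => mem_cls_of_mem (l2 he),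
    fun a ha b hb => h.comm a (l1 ha) b (l2 hb)⟩

theorem Min.oddCore_eq_bot (h : Min P S₁ S₂) {x : G} (hx : orderOf x = 2) : oddCore G = ⊥ := by
  haveI : Fact (Nat.Prime 2) := ⟨Nat.prime_two⟩
  refine (h.simple _ Core.pPrimeCore_normal).resolve_right fun e => ?_
  have hd := Core.not_dvd_card_pPrimeCore (p := 2) (G := G)
  rw [show pPrimeCore 2 G = ⊤ from e, Subgroup.card_top] at hd
  exact hd (hx ▸ orderOf_dvd_natCard x)

theorem Min.exists_central_pair (h : Min P S₁ S₂) [Nontrivial G] :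
    ∃ z ∈ S₁, orderOf z = 2 ∧ (∀ p ∈ P, Commute p z) ∧
      ∀ x ∈ S₁, orderOf x = 2 → ∃ E : Subgroup G, IsElementaryAbelian 2 E ∧ Nat.card E = 4 ∧
        E ≤ S₁ ∧ x ∈ E ∧ z ∈ E := by
  haveI : Fact (Nat.Prime 2) := ⟨Nat.prime_two⟩
  haveI : (S₁.subgroupOf (P : Subgroup G)).Normal := ⟨fun n hn g =>
    sylow_conj_mem h.sc₁ g.2 (mem_subgroupOf.1 hn)⟩
  haveI : Nontrivial ↥(S₁.subgroupOf (P : Subgroup G)) := by
    rw [Subgroup.nontrivial_iff_ne_bot]
    intro e
    have hb : S₁ = ⊥ := by rw [← map_subgroupOf_eq_of_le h.sc₁.1, e, Subgroup.map_bot]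
    have hg := h.gen₁
    rw [hb, show ((⊥ : Subgroup G) : Set G) = {1} from rfl] at hg
    exact bot_ne_top (α := Subgroup G) (le_antisymm bot_le
      (hg ▸ normalClosure_le_normal (N := (⊥ : Subgroup G)) (by simp)))
  obtain ⟨⟨z, hzP⟩, hz, hz2, hzc⟩ := S2898.exists_central_of_normal P.2 (S₁.subgroupOf (P : Subgroup G))
  rw [Subgroup.orderOf_mk] at hz2
  replace hz : z ∈ S₁ := mem_subgroupOf.1 hz
  have hcp : ∀ p ∈ P, Commute p z := fun p hp =>
    congrArg Subtype.val (mem_center_iff.1 hzc ⟨p, hp⟩)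
  refine ⟨z, hz, hz2, hcp, fun x hx hx2 => ?_⟩
  have hex : ∃ x' ∈ S₁, orderOf x' = 2 ∧ x' ≠ z := by
    by_contra hne
    push Not at hne
    have hiso : IsIsolatedInvolution z := Invol.isolated_of_sylow P hz2 fun g hg =>
      hne _ (h.sc₁.2 z hz g hg) ((Invol.orderOf_conj g z).trans hz2)
    have hm : z ∈ center G := mem_center_iff.2 fun g => by
      have e := Invol.zstar hiso g
      rw [h.oddCore_eq_bot hz2, Subgroup.mem_bot, mul_inv_eq_one, mul_inv_eq_iff_eq_mul] at e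
      exact e.symm
    rw [h.nc, Subgroup.mem_bot] at hm
    exact Invol.ne_one hz2 hm
  by_cases hxz : x = z
  · obtain ⟨x', hx', hx'2, hne⟩ := hex
    obtain ⟨he, hc⟩ := four_mk hx'2 hz2 hne (hcp x' (h.sc₁.1 hx'))
    exact ⟨_, he, hc, (closure_le _).2 (Set.insert_subset hx' (Set.singleton_subset_iff.2 hz)),
      subset_closure (Or.inr hxz), subset_closure (Or.inr rfl)⟩
  · obtain ⟨he, hc⟩ := four_mk hx2 hz2 hxz (hcp x (h.sc₁.1 hx))
    exact ⟨_, he, hc, (closure_le _).2 (Set.insert_subset hx (Set.singleton_subset_iff.2 hz)),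
      subset_closure (Or.inl rfl), subset_closure (Or.inr rfl)⟩

omit [Finite G] in
theorem exists_involution_of_four {E : Subgroup G} (hE : IsElementaryAbelian 2 E)
    (hc : Nat.card E = 4) : ∃ x ∈ E, orderOf x = 2 := by
  haveI : Fact (Nat.Prime 2) := ⟨Nat.prime_two⟩
  by_contra hne
  push Not at hne
  have hb : E = ⊥ := (eq_bot_iff_forall E).2 fun x hx => by
    by_contra hx1
    exact hne x hx (Coprime.ea_orderOf hE hx hx1)
  rw [hb, Subgroup.card_bot] at hc
  omega

omit [Finite G] in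
theorem conj_map_eq_of_commute {E : Subgroup G} {g : G} (hg : ∀ e ∈ E, Commute g e) :
    E.map (MulAut.conj g).toMonoidHom = E :=
  mem_normalizer_iff_map.1 (centralizer_le_normalizer _
    (mem_centralizer_iff.2 fun e he => (hg e he).symm.eq))

/-- The common closure of all pairs in `S₁ × S₂`. -/
theorem Min.exists_common (h : Min P S₁ S₂) [Nontrivial G] :
    ∃ (z : G) (E₀ : Subgroup G) (W₀ : Subgroup G), z ∈ S₁ ∧ orderOf z = 2 ∧
      (∀ p ∈ P, Commute p z) ∧
      IsElementaryAbelian 2 E₀ ∧ Nat.card E₀ = 4 ∧ E₀ ≤ S₁ ∧ z ∈ E₀ ∧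
      Odd (Nat.card W₀) ∧ (P : Subgroup G) ≤ normalizer (W₀ : Set G) ∧
      (∀ E₁ E₂, Pair S₁ S₂ E₁ E₂ → E₁ ≤ S₁ → E₂ ≤ S₂ → W E₁ E₂ = W₀) ∧
      (∀ x ∈ S₁, orderOf x = 2 → ∃ E : Subgroup G, IsElementaryAbelian 2 E ∧ Nat.card E = 4 ∧
        E ≤ S₁ ∧ x ∈ E) ∧
      (∀ y ∈ S₂, orderOf y = 2 → ∃ E : Subgroup G, IsElementaryAbelian 2 E ∧ Nat.card E = 4 ∧
        E ≤ S₂ ∧ y ∈ E) := by
  obtain ⟨z, hz, hz2, hcp, hfour⟩ := h.exists_central_pair
  obtain ⟨s, hs, hs2, -, hfour'⟩ := h.symm.exists_central_pair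
  obtain ⟨E₀, h0, c0, l0, -, hzE⟩ := hfour z hz hz2
  obtain ⟨F₀, f0, fc0, fl0, -, hsF⟩ := hfour' s hs hs2
  have hp0 := h.pair h0 f0 c0 fc0 l0 fl0
  have hconst : ∀ E₁ E₂, Pair S₁ S₂ E₁ E₂ → E₁ ≤ S₁ → E₂ ≤ S₂ → W E₁ E₂ = W E₀ F₀ := by
    intro E₁ E₂ hp l1 l2
    obtain ⟨x, hxE, hx2⟩ := exists_involution_of_four hp.ea₁ hp.card₁
    obtain ⟨y, hyE, hy2⟩ := exists_involution_of_four hp.ea₂ hp.card₂
    obtain ⟨E, e1, e2, e3, hxE', hzE'⟩ := hfour x (l1 hxE) hx2
    obtain ⟨F, f1, f2, f3, hyF', hsF'⟩ := hfour' y (l2 hyE) hy2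
    calc W E₁ E₂ = W E E₂ := hp.share₁ h (h.pair e1 hp.ea₂ e2 hp.card₂ e3 l2) hxE hxE'
            (Invol.ne_one hx2)
      _ = W E₀ E₂ := (h.pair e1 hp.ea₂ e2 hp.card₂ e3 l2).share₁ h
            (h.pair h0 hp.ea₂ c0 hp.card₂ l0 l2) hzE' hzE (Invol.ne_one hz2)
      _ = W E₀ F := (h.pair h0 hp.ea₂ c0 hp.card₂ l0 l2).share₂ h
            (h.pair h0 f1 c0 f2 l0 f3) hyE hyF' (Invol.ne_one hy2)
      _ = W E₀ F₀ := (h.pair h0 f1 c0 f2 l0 f3).share₂ h hp0 hsF' hsF (Invol.ne_one hs2)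
  refine ⟨z, E₀, W E₀ F₀, hz, hz2, hcp, h0, c0, l0, hzE, (hp0.W_props h).1, fun p hp => ?_, hconst,
    fun x hx hx2 => ?_, fun y hy hy2 => ?_⟩
  · rw [mem_normalizer_iff_map, ← hp0.W_map h]
    refine hconst _ _ (hp0.map p) ?_ ?_
    · rintro _ ⟨e, he, rfl⟩; exact sylow_conj_mem h.sc₁ hp (l0 he)
    · rintro _ ⟨e, he, rfl⟩; exact sylow_conj_mem h.sc₂ hp (fl0 he)
  · obtain ⟨E, e1, e2, e3, e4, -⟩ := hfour x hx hx2
    exact ⟨E, e1, e2, e3, e4⟩
  · obtain ⟨E, e1, e2, e3, e4, -⟩ := hfour' y hy hy2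
    exact ⟨E, e1, e2, e3, e4⟩

omit [Finite G] in
theorem closure_pair_centralizer {x y c : G} :
    c ∈ centralizer ((closure ({x, y} : Set G) : Subgroup G) : Set G) ↔
      Commute x c ∧ Commute y c := by
  rw [centralizer_closure, mem_centralizer_iff]
  simp [Commute, SemiconjBy]

/-- The centraliser of a pair of involutions normalises the closure. -/
theorem Min.pair_centralizer_le (h : Min P S₁ S₂) {E₁ E₂ : Subgroup G}
    (hp : Pair S₁ S₂ E₁ E₂) {x y : G} (hx : x ∈ E₁) (hx1 : x ≠ 1) (hy : y ∈ E₂) (hy1 : y ≠ 1) :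
    centralizer ((closure ({x, y} : Set G) : Subgroup G) : Set G) ≤
      normalizer (W E₁ E₂ : Set G) := by
  haveI : Fact (Nat.Prime 2) := ⟨Nat.prime_two⟩
  letI : MulAction G (Subgroup G) := MulAction.compHom (Subgroup G) (MulAut.conj : G →* MulAut G)
  have hsm : ∀ (g : G) (E : Subgroup G), g • E = E.map (MulAut.conj g).toMonoidHom := fun _ _ => rfl
  set B := closure ({x, y} : Set G) with hB
  set O := Layer.cCore 2 B with hO
  have hxo : orderOf x = 2 := Coprime.ea_orderOf hp.ea₁ hx hx1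
  have hxy : Commute x y := hp.comm x hx y hy
  have hxy1 : x * y ≠ 1 := fun e => hx1 (h.toSetting.cls_inter (hp.cls₁ x hx)
    (hp.cls₂ x (eq_inv_of_mul_eq_one_left e ▸ inv_mem hy)))
  have hE1 : E₁ ≤ centralizer (B : Set G) := fun e he => closure_pair_centralizer.2
    ⟨Coprime.ea_comm hp.ea₁ hx he, (hp.comm e he y hy).symm⟩
  have hE2 : E₂ ≤ centralizer (B : Set G) := fun e he => closure_pair_centralizer.2
    ⟨hp.comm x hx e he, Coprime.ea_comm hp.ea₂ hy he⟩
  have hCO : centralizer (B : Set G) ≤ normalizer (O : Set G) :=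
    (centralizer_le_normalizer _).trans (Layer.normalizer_le_normalizer_cCore B)
  have hOodd : Odd (Nat.card O) := Nat.coprime_two_right.1 (Layer.coprime_card_cCore B)
  have hOu : O ≤ Core (x * y) := h.core_pair_le (hp.cls₁ x hx) hxo (hp.cls₂ y hy) hxy
  have hOn : O ≤ normalizer (W E₁ E₂ : Set G) := by
    rw [← Coprime.commutator_sup_centralizer (hE2.trans hCO) (S1330.coprime_four hp.ea₂ hOodd)
      (Or.inl (Coprime.ea_isSolvable hp.ea₂))]
    have hfix₂ : ∀ o ∈ O, (∀ e ∈ E₂, Commute o e) → o ∈ normalizer (W E₁ E₂ : Set G) := by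
      intro o ho hc
      have hox : Commute x o := (closure_pair_centralizer.1 (Layer.cCore_le B ho)).1
      have e2 := conj_map_eq_of_commute hc
      have hp' := hp.map o
      rw [e2] at hp'
      have e1 := hp'.share₁ h hp (x := x) ⟨x, hx, show o * x * o⁻¹ = x by
        rw [← hox.eq, mul_inv_cancel_right]⟩ hx hx1
      rw [mem_normalizer_iff_map, ← hp.W_map h, e2, e1]
    have hfix₁ : ∀ o ∈ O, (∀ e ∈ E₁, Commute o e) → o ∈ normalizer (W E₁ E₂ : Set G) := by
      intro o ho hc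
      have hoy : Commute y o := (closure_pair_centralizer.1 (Layer.cCore_le B ho)).2
      have e1 := conj_map_eq_of_commute hc
      have hp' := hp.map o
      rw [e1] at hp'
      have e2 := hp'.share₂ h hp (y := y) ⟨y, hy, show o * y * o⁻¹ = y by
        rw [← hoy.eq, mul_inv_cancel_right]⟩ hy hy1
      rw [mem_normalizer_iff_map, ← hp.W_map h, e1, e2]
    refine sup_le ?_ fun o ho =>
      hfix₂ o ho.1 fun e he => (mem_centralizer_iff.1 ho.2 e he).symm
    have hle2 : ⁅O, E₂⁆ ≤ O := Coprime.commutator_le_of_le_normalizer (hE2.trans hCO)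
    have hn1 : E₁ ≤ normalizer ((⁅O, E₂⁆ : Subgroup G) : Set G) := fun e he => by
      rw [mem_normalizer_iff_map, map_commutator,
        mem_normalizer_iff_map.1 (hCO (hE1 he)),
        conj_map_eq_of_commute fun f hf => hp.comm e he f hf]
    rw [← Coprime.commutator_sup_centralizer hn1
      ((S1330.coprime_four hp.ea₁ hOodd).coprime_dvd_right (card_dvd_of_le hle2))
      (Or.inl (Coprime.ea_isSolvable hp.ea₁))]
    refine sup_le (le_trans ?_ le_normalizer) fun o ho =>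
      hfix₁ o (hle2 ho.1) fun e he => (mem_centralizer_iff.1 ho.2 e he).symm
    refine le_trans (le_inf ?_ ?_)
      (Pair.theta_le_W (mul_mem (mem_sup_left hx) (mem_sup_right hy)) hxy1)
    · exact (commutator_mono (hle2.trans hOu) le_rfl).trans le_sup_left
    · exact ((Coprime.commutator_le_of_le_normalizer hn1).trans
        (commutator_mono hOu le_rfl)).trans le_sup_left
  intro c hc
  set F₂ := E₂.map (MulAut.conj c).toMonoidHom with hF₂
  have hF2B : F₂ ≤ centralizer (B : Set G) := by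
    rintro _ ⟨e, he, rfl⟩
    exact mul_mem (mul_mem hc (hE2 he)) (inv_mem hc)
  have hproper : centralizer (B : Set G) ≠ ⊤ := fun e =>
    h.centralizer_ne_top hx1 (eq_top_iff.2 fun g _ => mem_centralizer_of_commute
      (closure_pair_centralizer.1 (e ▸ mem_top g : g ∈ centralizer (B : Set G))).1.symm)
  have hcomm : ∀ a ∈ F₂, ∀ e ∈ E₁, ⁅e, a⁆ ∈ O := by
    rintro _ ⟨b, hb, rfl⟩ e he
    exact ⟨_, h.toSetting.comm_mem_core h.ih hproper (a := ⟨e, hE1 he⟩)
      (b := ⟨_, hF2B ⟨b, hb, rfl⟩⟩) (hp.cls₁ e he) (cls_conj (hp.cls₂ b hb) c), rfl⟩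
  have hpc := hp.map c
  have hfixed : ∀ a ∈ F₂, ∃ k ∈ O, a • E₁ = k • E₁ := by
    intro a ha
    have hB' : a • E₁ ≤ O ⊔ E₁ := by
      rw [hsm]
      rintro _ ⟨e, he, rfl⟩
      have e' : a * e * a⁻¹ = ⁅e, a⁆⁻¹ * e := by
        rw [commutatorElement_inv, commutatorElement_def]; group
      show a * e * a⁻¹ ∈ O ⊔ E₁
      rw [e']
      exact mul_mem_sup (inv_mem (hcomm a ha e he)) he
    obtain ⟨k, hk, hke⟩ := Coprime.exists_conj_eq (hE1.trans hCO)
      (S1330.coprime_four hp.ea₁ hOodd) (Or.inl (Coprime.ea_isSolvable hp.ea₁)) hB' (by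
        rw [hsm]; exact card_map_of_injective (MulAut.conj a).injective)
    exact ⟨k⁻¹, inv_mem hk, eq_inv_smul_iff.2 hke⟩
  obtain ⟨k, hk, hkfix⟩ := Coprime.exists_fixed_point (A := F₂) (K := O) (hF2B.trans hCO)
    (S1330.coprime_four hpc.ea₂ hOodd) (Or.inl (Coprime.ea_isSolvable hpc.ea₂)) E₁ hfixed
  have hkB : k ∈ centralizer (B : Set G) := Layer.cCore_le B hk
  obtain ⟨hxc, hyc⟩ := closure_pair_centralizer.1 hc
  obtain ⟨hxk, hyk⟩ := closure_pair_centralizer.1 hkB
  set F₁ := E₁.map (MulAut.conj k).toMonoidHom with hF₁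
  have hF1B : F₁ ≤ centralizer (B : Set G) := by
    rintro _ ⟨e, he, rfl⟩
    exact mul_mem (mul_mem hkB (hE1 he)) (inv_mem hkB)
  have hpk := hp.map k
  have hFF : ∀ a ∈ F₁, ∀ b ∈ F₂, a * b = b * a := by
    intro a ha b hb
    have h1 : b * a * b⁻¹ * a⁻¹ ∈ F₁ := by
      refine F₁.mul_mem ?_ (F₁.inv_mem ha)
      have hf : b • k • E₁ = k • E₁ := hkfix b hb
      rw [hsm k, hsm] at hf
      have hm : b * a * b⁻¹ ∈ (E₁.map (MulAut.conj k).toMonoidHom).map (MulAut.conj b).toMonoidHom :=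
        ⟨a, ha, rfl⟩
      rwa [hf] at hm
    have h2 : b * a * b⁻¹ * a⁻¹ ∈ O := by
      obtain ⟨e, he, rfl⟩ := ha
      obtain ⟨b', hb', rfl⟩ := hb
      have hm : ⁅MulAut.conj k e, MulAut.conj c b'⁆ ∈ O :=
        ⟨_, h.toSetting.comm_mem_core h.ih hproper (a := ⟨_, hF1B ⟨e, he, rfl⟩⟩)
          (b := ⟨_, hF2B ⟨b', hb', rfl⟩⟩) (cls_conj (hp.cls₁ e he) k)
          (cls_conj (hp.cls₂ b' hb') c), rfl⟩
      have := inv_mem hm
      rwa [commutatorElement_inv, commutatorElement_def] at this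
    have h3 : b * a * b⁻¹ * a⁻¹ ∈ F₁ ⊓ O := ⟨h1, h2⟩
    rw [Coprime.inf_eq_bot_of_coprime (S1330.coprime_four hpk.ea₁ hOodd), Subgroup.mem_bot,
      mul_inv_eq_one, mul_inv_eq_iff_eq_mul] at h3
    exact h3.symm
  have hpF : Pair S₁ S₂ F₁ F₂ :=
    ⟨hpk.ea₁, hpc.ea₂, hpk.card₁, hpc.card₂, hpk.cls₁, hpc.cls₂, hFF⟩
  have e1 := hpc.share₁ h hpF (x := x)
    ⟨x, hx, show c * x * c⁻¹ = x by rw [← hxc.eq, mul_inv_cancel_right]⟩
    ⟨x, hx, show k * x * k⁻¹ = x by rw [← hxk.eq, mul_inv_cancel_right]⟩ hx1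
  have e2 := hpF.share₂ h hpk (y := y)
    ⟨y, hy, show c * y * c⁻¹ = y by rw [← hyc.eq, mul_inv_cancel_right]⟩
    ⟨y, hy, show k * y * k⁻¹ = y by rw [← hyk.eq, mul_inv_cancel_right]⟩ hy1
  have e3 := mem_normalizer_iff_map.1 (hOn hk)
  rw [mem_normalizer_iff_map, ← hp.W_map h, e1, e2, hp.W_map h, e3]

/-- The conjugates of elements of `S₁` in the centraliser of an involution of `S₁` normalise the
closure. -/
theorem Min.cls_centralizer_le (h : Min P S₁ S₂) {E₁ E₂ : Subgroup G} (hp : Pair S₁ S₂ E₁ E₂)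
    {x : G} (hx : x ∈ E₁) (hx1 : x ≠ 1) {g : G} (hg : g ∈ Cls S₁) (hgx : Commute g x) :
    g ∈ normalizer (W E₁ E₂ : Set G) := by
  haveI : Fact (Nat.Prime 2) := ⟨Nat.prime_two⟩
  haveI : IsMulCommutative E₂ := hp.ea₂.1
  have hcent : ∀ e ∈ E₂, e ≠ 1 → ∀ d : G, Commute d x → Commute d e →
      d ∈ normalizer (W E₁ E₂ : Set G) := fun e he he1 d h1 h2 =>
    h.pair_centralizer_le hp hx hx1 he he1 (closure_pair_centralizer.2 ⟨h1.symm, h2.symm⟩)
  have hxC : E₂ ≤ centralizer ({x} : Set G) := fun e he =>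
    mem_centralizer_singleton_iff.2 (hp.comm x hx e he).symm
  have hD : Core x ≤ normalizer (W E₁ E₂ : Set G) := by
    rw [← Coprime.iSup_centralizer_eq (A := E₂) (K := Core x)
      (Coprime.ea_not_isCyclic hp.ea₂ (by rw [hp.card₂]; norm_num))
      (hxC.trans (S1330.centralizer_le_normalizer_core x))
      (S1330.coprime_four hp.ea₂ (S1330.card_core_odd x))]
    refine iSup₂_le fun e he d hd => hcent e he.1 he.2 d ?_ ?_
    · exact mem_centralizer_singleton_iff.1 (S1330.core_le x hd.1)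
    · exact mem_centralizer_singleton_iff.1 hd.2
  obtain ⟨s, hsE, hs2⟩ := exists_involution_of_four hp.ea₂ hp.card₂
  have hs1 := Invol.ne_one hs2
  have hgC : g ∈ centralizer ({x} : Set G) := mem_centralizer_of_commute hgx
  have hm := h.toSetting.comm_mem_core h.ih (h.centralizer_ne_top hx1) (a := ⟨g, hgC⟩)
    (b := ⟨s, hxC hsE⟩) hg (hp.cls₂ s hsE)
  set r := ⁅g, s⁆ with hr
  have hrD : r ∈ Core x := ⟨_, hm, rfl⟩
  obtain ⟨m, hm'⟩ := (S1330.card_core_odd x).of_dvd_nat
    (Subgroup.orderOf_dvd_natCard _ hrD)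
  have hsr : s * r * s⁻¹ = r⁻¹ := by
    rw [hr, commutatorElement_def, Invol.inv_eq_self hs2]
    simp [mul_assoc, Invol.inv_eq_self hs2, Invol.mul_self_eq_one hs2]
  set d := r ^ (m + 1) with hd
  have hsd : s * d * s⁻¹ = d⁻¹ := by rw [hd, ← conj_pow, hsr, inv_pow]
  have hdd : d * d = r := by
    rw [hd, ← pow_add, show m + 1 + (m + 1) = (2 * m + 1) + 1 by omega, pow_add, ← hm',
      pow_orderOf_eq_one, one_mul, pow_one]
  have hds : d * s * d⁻¹ = g * s * g⁻¹ := by
    calc d * s * d⁻¹ = d * (s * d⁻¹ * s⁻¹) * s := by group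
      _ = d * (s * d * s⁻¹)⁻¹ * s := by group
      _ = d * d * s := by rw [hsd, inv_inv]
      _ = g * s * g⁻¹ := by
        rw [hdd, hr, commutatorElement_def, Invol.inv_eq_self hs2, mul_assoc _ s s,
          Invol.mul_self_eq_one hs2, mul_one]
  have hdD : d ∈ Core x := pow_mem hrD _
  have hc2 : Commute (d⁻¹ * g) s := by
    show d⁻¹ * g * s = s * (d⁻¹ * g)
    calc d⁻¹ * g * s = d⁻¹ * (g * s * g⁻¹) * g := by group
      _ = d⁻¹ * (d * s * d⁻¹) * g := by rw [hds]
      _ = s * (d⁻¹ * g) := by group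
  have hn := hcent s hsE hs1 (d⁻¹ * g)
    ((show Commute d x from mem_centralizer_singleton_iff.1 (S1330.core_le x hdD)).inv_left.mul_left
      hgx) hc2
  have := mul_mem (hD hdD) hn
  rwa [mul_inv_cancel_left] at this

/-- There is no simple minimal counterexample. -/
theorem Min.false (h : Min P S₁ S₂) [Nontrivial G] : False := by
  classical
  haveI : Fact (Nat.Prime 2) := ⟨Nat.prime_two⟩
  obtain ⟨z, E₀, W₀, hz, hz2, hcp, h0, c0, l0, hzE, hWodd, hPN, hconst, hfour₁, hfour₂⟩ :=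
    h.exists_common
  obtain ⟨s, hs, hs2, -, -⟩ := h.symm.exists_central_pair
  obtain ⟨F, f1, f2, f3, -⟩ := hfour₂ s hs hs2
  let Adj : G → G → Prop := fun a b =>
    (orderOf a = 2 ∧ a ∈ Cls S₁) ∧ (orderOf b = 2 ∧ b ∈ Cls S₁) ∧ Commute a b
  let Reach : G → G → Prop := Relation.ReflTransGen Adj
  have hsymm : ∀ a b, Reach a b → Reach b a := fun a b hab => by
    induction hab with
    | refl => exact Relation.ReflTransGen.refl
    | tail _ hbc ih => exact Relation.ReflTransGen.head ⟨hbc.2.1, hbc.1, hbc.2.2.symm⟩ ih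
  have hconj : ∀ g a b, Reach a b → Reach (g * a * g⁻¹) (g * b * g⁻¹) := fun g a b hab => by
    refine hab.lift (fun a => g * a * g⁻¹) fun a b hab => ?_
    exact ⟨⟨(Invol.orderOf_conj g a).trans hab.1.1, cls_conj hab.1.2 g⟩,
      ⟨(Invol.orderOf_conj g b).trans hab.2.1.1, cls_conj hab.2.1.2 g⟩,
      (Commute.conj_iff g).2 hab.2.2⟩
  let Stab : Subgroup G :=
    { carrier := {g | Reach z (g * z * g⁻¹)}
      one_mem' := by
        show Reach z (1 * z * 1⁻¹)
        rw [one_mul, inv_one, mul_one]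
      mul_mem' := fun {a b} ha hb => by
        show Reach z (a * b * z * (a * b)⁻¹)
        rw [show a * b * z * (a * b)⁻¹ = a * (b * z * b⁻¹) * a⁻¹ by group]
        exact ha.trans (hconj a _ _ hb)
      inv_mem' := fun {a} ha => by
        show Reach z (a⁻¹ * z * a⁻¹⁻¹)
        have := hconj a⁻¹ _ _ ha
        rw [show a⁻¹ * (a * z * a⁻¹) * a⁻¹⁻¹ = z by group] at this
        exact hsymm _ _ this }
  have hp0 : Pair S₁ S₂ E₀ F := h.pair h0 f1 c0 f2 l0 f3
  have hW0 : W E₀ F = W₀ := hconst _ _ hp0 l0 f3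
  have hWU : W₀ ≤ Stab := by
    rw [← hW0, hp0.W_eq_iSup h]
    refine iSup₂_le fun a ha c hc => ?_
    have hca : Commute c a := mem_centralizer_singleton_iff.1
      (S1330.core_le a (S1330.part_le_core (hp0.cs h) (mem_sup_left ha.1) hc.1))
    have ha2 : orderOf a = 2 := Coprime.ea_orderOf h0 ha.1 ha.2
    have hza : Adj z a := ⟨⟨hz2, mem_cls_of_mem hz⟩, ⟨ha2, hp0.cls₁ a ha.1⟩,
      Coprime.ea_comm h0 hzE ha.1⟩
    have h1 := hconj c _ _ (Relation.ReflTransGen.single hza)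
    rw [show c * a * c⁻¹ = a by rw [hca.eq, mul_inv_cancel_right]] at h1
    exact (Relation.ReflTransGen.single hza).trans (hsymm _ _ h1)
  -- the subgroup containing every conjugate of `s`
  obtain ⟨U, hU, hCU, hWU'⟩ : ∃ U : Subgroup G, U ≠ ⊤ ∧
      centralizer ({z} : Set G) ≤ U ∧ W₀ ≤ U := by
    by_cases hW : W₀ = ⊥
    · exact ⟨_, h.centralizer_ne_top (Invol.ne_one hz2), le_rfl, hW ▸ bot_le⟩
    refine ⟨Stab, fun htop => ?_, fun c hc => ?_, hWU⟩
    · set M := normalizer (W₀ : Set G) with hM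
      have hMne : M ≠ ⊤ := fun e => by
        rcases h.simple W₀ (normalizer_eq_top_iff.1 e) with e' | e'
        · exact hW e'
        · rw [e', Subgroup.card_top] at hWodd
          exact Nat.not_even_iff_odd.2 hWodd (even_iff_two_dvd.2 (hz2 ▸ orderOf_dvd_natCard z))
      have hzM : z ∈ M := hPN (h.sc₁.1 hz)
      have hK : ∀ b, Reach z b → b ∈ M := by
        intro b hb
        induction hb with
        | refl => exact hzM
        | @tail a b _ hab iha =>
          obtain ⟨⟨ha2, haC⟩, ⟨-, hbC⟩, hcom⟩ := hab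
          obtain ⟨m, hm⟩ := Invol.exists_conj_mem_of_isPGroup (P.subtype hPN)
            (x := (⟨a, iha⟩ : ↥M)) ⟨1, by rw [Subgroup.orderOf_mk, pow_one]; exact ha2⟩
          have hmP : (m : G) * a * (m : G)⁻¹ ∈ P := hm
          have hxS := mem_of_cls h.sc₁ (cls_conj haC (m : G)) hmP
          have hx2 : orderOf ((m : G) * a * (m : G)⁻¹) = 2 := (Invol.orderOf_conj _ _).trans ha2
          obtain ⟨E, e1, e2, e3, e4⟩ := hfour₁ _ hxS hx2
          have hpE := h.pair e1 f1 e2 f2 e3 f3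
          have hb' := h.cls_centralizer_le hpE e4 (Invol.ne_one hx2) (cls_conj hbC (m : G))
            ((Commute.conj_iff _).2 hcom.symm)
          rw [hconst _ _ hpE e3 f3] at hb'
          have := mul_mem (mul_mem (inv_mem m.2) hb') m.2
          simpa [mul_assoc] using this
      have hall : normalClosure ({z} : Set G) ≤ M := by
        refine (closure_le _).2 fun b hb => ?_
        obtain ⟨_, hzz, hcon⟩ := Group.mem_conjugatesOfSet_iff.1 hb
        rw [Set.mem_singleton_iff] at hzz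
        subst hzz
        obtain ⟨g, rfl⟩ := isConj_iff.1 hcon
        exact hK _ (show g ∈ Stab by rw [htop]; exact mem_top g)
      rcases h.simple _ (normalClosure_normal (s := ({z} : Set G))) with e | e
      · have hzb : z ∈ normalClosure ({z} : Set G) := subset_normalClosure rfl
        rw [e, Subgroup.mem_bot] at hzb
        exact Invol.ne_one hz2 hzb
      · exact hMne (eq_top_iff.2 (e ▸ hall))
    · show Reach z (c * z * c⁻¹)
      rw [mem_centralizer_singleton_iff.1 hc, mul_inv_cancel_right]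
  have hPz : (P : Subgroup G) ≤ centralizer ({z} : Set G) := fun p hp =>
    mem_centralizer_of_commute (hcp p hp)
  have key : ∀ y, y ∈ Cls S₂ → orderOf y = 2 → y ∈ U := by
    intro y hy hy2
    have heven : Even (orderOf (z * y)) := by
      by_contra ho
      obtain ⟨c, hc⟩ := isConj_iff.1
        (Invol.isConj_of_odd hz2 hy2 (Nat.not_even_iff_odd.1 ho))
      have hzC : z ∈ Cls S₂ := by
        have := cls_conj hy c⁻¹
        rw [← hc] at this
        simpa [mul_assoc] using this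
      exact Invol.ne_one hz2 (h.toSetting.cls_inter (mem_cls_of_mem hz) hzC)
    set v := (z * y) ^ (orderOf (z * y) / 2) with hv
    have hv2 : orderOf v = 2 := Invol.orderOf_central heven (orderOf_pos _)
    have hvz : Commute v z := Invol.commute_central hz2 hy2 heven
    have hvy : Commute v y := Invol.commute_central' hz2 hy2 heven
    have hm := h.toSetting.comm_mem_core h.ih (h.centralizer_ne_top (Invol.ne_one hv2))
      (a := ⟨z, mem_centralizer_of_commute hvz.symm⟩) (b := ⟨y, mem_centralizer_of_commute hvy.symm⟩)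
      (mem_cls_of_mem hz) hy
    have hzy : (z * y) ^ 2 ∈ Core v := by
      rw [show (z * y) ^ 2 = ⁅z, y⁆ by
        rw [commutatorElement_def, Invol.inv_eq_self hz2, Invol.inv_eq_self hy2, pow_two]; group]
      exact ⟨_, hm, rfl⟩
    obtain ⟨m, hm2⟩ := heven
    have ho2 : orderOf ((z * y) ^ 2) = m := by
      have := orderOf_pos (z * y)
      rw [orderOf_pow_of_dvd (by norm_num) ⟨m, by omega⟩, hm2]
      omega
    obtain ⟨k, hk⟩ : Odd m := ho2 ▸ (S1330.card_core_odd v).of_dvd_nat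
      (Subgroup.orderOf_dvd_natCard _ hzy)
    set r := z * y with hr
    set w := r ^ (-(2 * (k : ℤ))) with hw
    have hve : v = r ^ (2 * (k : ℤ) + 1) := by
      rw [hv, show orderOf r / 2 = 2 * k + 1 by omega, ← zpow_natCast]; norm_num
    have hwD : w ∈ Core v := by
      rw [hw, show -(2 * (k : ℤ)) = ((2 : ℕ) : ℤ) * -(k : ℤ) by push_cast; ring, zpow_mul,
        zpow_natCast]
      exact zpow_mem hzy _
    set y' := z * v with hy'
    have hyw : y = y' * w := by
      rw [hy', hve, hw, mul_assoc, ← zpow_add,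
        show 2 * (k : ℤ) + 1 + -(2 * (k : ℤ)) = 1 by ring, zpow_one, hr,
        Invol.mul_mul_cancel_self hz2]
    have hd : y' = r ^ (-(k : ℤ)) * y * (r ^ (-(k : ℤ)))⁻¹ := by
      have h1 : r ^ (-(k : ℤ)) * z = z * r ^ (k : ℤ) := by
        rw [hr, Invol.zpow_mul_self hz2 hy2, neg_neg]
      have h2 : y = z * r ^ (1 : ℤ) := by rw [hr, Invol.self_mul_zpow_one hz2]
      rw [h2, ← mul_assoc, h1, mul_assoc, mul_assoc, ← zpow_neg, neg_neg, ← zpow_add, ← zpow_add,
        hy', hve]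
      congr 2
      ring
    have hy'c : y' ∈ Cls S₂ := hd ▸ cls_conj hy _
    have hy'z : Commute y' z := (Commute.refl z).mul_left hvz
    obtain ⟨j, hj⟩ := isPGroup_zpowers_of_cls h.sc₂ hy'c
    obtain ⟨c, hcP⟩ := Invol.exists_conj_mem_of_isPGroup (P.subtype hPz)
      (x := (⟨y', mem_centralizer_of_commute hy'z⟩ : ↥(centralizer ({z} : Set G))))
      ⟨j, by rw [Subgroup.orderOf_mk]; exact hj⟩
    set y'' := (c : G) * y' * (c : G)⁻¹ with hy''
    have hy''S : y'' ∈ S₂ := mem_of_cls h.sc₂ (cls_conj hy'c _) hcP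
    have hy'2 : orderOf y' = 2 := by
      rw [hd, Invol.orderOf_conj, hy2]
    obtain ⟨E₂, e1, e2, e3, e4⟩ := hfour₂ y'' hy''S ((Invol.orderOf_conj _ _).trans hy'2)
    have hp : Pair S₁ S₂ E₀ E₂ := h.pair h0 e1 c0 e2 l0 e3
    have hcz : (c : G) * z = z * (c : G) := mem_centralizer_singleton_iff.1 c.2
    have hvc : (c : G) * v * (c : G)⁻¹ = z * y'' := by
      calc (c : G) * v * (c : G)⁻¹ = (c : G) * (z * y') * (c : G)⁻¹ := by
            rw [hy', Invol.mul_mul_cancel_self hz2]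
        _ = z * y'' := by rw [hy'', ← mul_assoc (c : G) z, hcz]; group
    set w' := (c : G) * w * (c : G)⁻¹ with hw'
    have hw'D : w' ∈ Core (z * y'') := by
      rw [← hvc, Signalizer.core_conj]
      exact ⟨w, hwD, rfl⟩
    have hzw : z * w * z⁻¹ = w⁻¹ := by
      rw [hw, ← conj_zpow, ← zpow_neg, Invol.inv_eq_self hz2, hr, ← mul_assoc z z y,
        Invol.mul_self_eq_one hz2, one_mul]
      rw [show y * z = (z * y)⁻¹ by
        rw [mul_inv_rev, Invol.inv_eq_self hz2, Invol.inv_eq_self hy2], inv_zpow, ← zpow_neg]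
    have hzw' : z * w'⁻¹ * z⁻¹ = w' := by
      have e : z * w' * z⁻¹ = w'⁻¹ := by
        calc z * w' * z⁻¹ = (z * (c : G)) * w * ((z * (c : G)))⁻¹ := by rw [hw']; group
          _ = ((c : G) * z) * w * (((c : G) * z))⁻¹ := by rw [hcz]
          _ = (c : G) * (z * w * z⁻¹) * (c : G)⁻¹ := by group
          _ = w'⁻¹ := by rw [hzw, hw']; group
      calc z * w'⁻¹ * z⁻¹ = (z * w' * z⁻¹)⁻¹ := by group
        _ = w' := by rw [e, inv_inv]
    have hne : z * y'' ≠ 1 := by
      rw [← hvc]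
      simpa using Invol.ne_one hv2
    have hcomm := hp.commutator_le_W hzE e4 hne hw'D
    rw [hconst _ _ hp l0 e3, show ⁅w', z⁆ = w' * (z * w'⁻¹ * z⁻¹) by
      simp [commutatorElement_def, mul_assoc], hzw'] at hcomm
    obtain ⟨t, ht⟩ := (S1330.card_core_odd (z * y'')).of_dvd_nat
      (Subgroup.orderOf_dvd_natCard _ hw'D)
    have hwW : w' ∈ W₀ := by
      have e : (w' * w') ^ (t + 1) = w' := by
        rw [← pow_two, ← pow_mul, show 2 * (t + 1) = (2 * t + 1) + 1 by ring, pow_add, ← ht,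
          pow_orderOf_eq_one, one_mul, pow_one]
      exact e ▸ pow_mem hcomm _
    have hcU : (c : G) ∈ U := hCU c.2
    have hwU : w ∈ U := by
      have := mul_mem (mul_mem (inv_mem hcU) (hWU' hwW)) hcU
      rw [hw'] at this
      simpa [mul_assoc] using this
    rw [hyw]
    exact mul_mem (hCU (mem_centralizer_of_commute hy'z)) hwU
  have hle : normalClosure ({s} : Set G) ≤ U := by
    refine (closure_le _).2 fun b hb => ?_
    obtain ⟨_, hss, hcon⟩ := Group.mem_conjugatesOfSet_iff.1 hb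
    rw [Set.mem_singleton_iff] at hss
    subst hss
    obtain ⟨g, rfl⟩ := isConj_iff.1 hcon
    exact key _ (cls_conj (mem_cls_of_mem hs) g) ((Invol.orderOf_conj g _).trans hs2)
  rcases h.simple _ (normalClosure_normal (s := ({s} : Set G))) with e | e
  · have hsb : s ∈ normalClosure ({s} : Set G) := subset_normalClosure rfl
    rw [e, Subgroup.mem_bot] at hsb
    exact Invol.ne_one hs2 hsb
  · exact hU (eq_top_iff.2 (e ▸ hle))

end Cfsg.Agent.ProdFusion
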