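import Cfsg.Agent.ProdFusion.Local
import Cfsg.Agent.Signalizer.RankGraph
import Cfsg.Agent.Coprime.Generation
import Cfsg.Agent.S0205
import Cfsg.Agent.S0217

/-!
Product fusion: the signalizer functor of a pair of commuting four-groups.
-/

set_option autoImplicit false
set_option linter.style.haveILetI false

namespace Cfsg.Agent.ProdFusion

open Subgroup Cfsg
open scoped Pointwise commutatorElement
open S1330 (qmk part)

universe u

variable {G : Type u} [Group G]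

local notation "Core" x:max => centralizerPPrimeCore 2 x

/-- Commuting four-groups inside the two classes. -/
structure Pair (S₁ S₂ E₁ E₂ : Subgroup G) : Prop where
  ea₁ : IsElementaryAbelian 2 E₁
  ea₂ : IsElementaryAbelian 2 E₂
  card₁ : Nat.card E₁ = 4
  card₂ : Nat.card E₂ = 4
  cls₁ : ∀ e ∈ E₁, e ∈ Cls S₁
  cls₂ : ∀ e ∈ E₂, e ∈ Cls S₂
  comm : ∀ a ∈ E₁, ∀ b ∈ E₂, a * b = b * a

variable {P : Sylow 2 G} {S₁ S₂ E₁ E₂ E₁' E₂' : Subgroup G}

theorem Pair.symm (hp : Pair S₁ S₂ E₁ E₂) : Pair S₂ S₁ E₂ E₁ :=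
  ⟨hp.ea₂, hp.ea₁, hp.card₂, hp.card₁, hp.cls₂, hp.cls₁, fun a ha b hb => (hp.comm b hb a ha).symm⟩

/-- The functor of a pair. -/
abbrev theta (E₁ E₂ : Subgroup G) (a : G) : Subgroup G := part a E₁ ⊓ part a E₂

/-- Its closure. -/
def W (E₁ E₂ : Subgroup G) : Subgroup G :=
  ⨆ a : {a : G // a ∈ E₁ ⊔ E₂ ∧ a ≠ 1}, theta E₁ E₂ (a : G)

theorem W_symm (E₁ E₂ : Subgroup G) : W E₁ E₂ = W E₂ E₁ := by
  refine le_antisymm (iSup_le fun a => ?_) (iSup_le fun a => ?_)
  · exact le_iSup_of_le ⟨a.1, by rw [sup_comm]; exact a.2.1, a.2.2⟩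
      (inf_comm (part a.1 E₁) (part a.1 E₂)).le
  · exact le_iSup_of_le ⟨a.1, by rw [sup_comm]; exact a.2.1, a.2.2⟩
      (inf_comm (part a.1 E₂) (part a.1 E₁)).le

/-- The value of the functor at `x`, computed with a single involution `y`. -/
def phi (x y : G) : Subgroup G := ⁅Core x, zpowers y⁆ ⊔ (Core x ⊓ Core y)

/-- The closure, computed with a single involution `y`. -/
def Wv (E : Subgroup G) (y : G) : Subgroup G := ⨆ x ∈ {x : G | x ∈ E ∧ x ≠ 1}, phi x y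

theorem phi_conj [Finite G] (x y g : G) :
    (phi x y).map (MulAut.conj g).toMonoidHom = phi (g * x * g⁻¹) (g * y * g⁻¹) := by
  rw [phi, phi, Subgroup.map_sup, map_commutator, MonoidHom.map_zpowers,
    Subgroup.map_inf _ _ _ (MulAut.conj g).injective, ← Signalizer.core_conj,
    ← Signalizer.core_conj]
  rfl

theorem Wv_conj [Finite G] (E : Subgroup G) (y g : G) :
    (Wv E y).map (MulAut.conj g).toMonoidHom =
      Wv (E.map (MulAut.conj g).toMonoidHom) (g * y * g⁻¹) := by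
  simp only [Wv, Subgroup.map_iSup, phi_conj]
  refine le_antisymm (iSup₂_le fun x hx => ?_) (iSup₂_le fun x hx => ?_)
  · exact le_iSup₂_of_le (g * x * g⁻¹) ⟨⟨x, hx.1, rfl⟩, by simpa using hx.2⟩ le_rfl
  · obtain ⟨⟨x, hxE, rfl⟩, hx1⟩ := hx
    exact le_iSup₂_of_le x ⟨hxE, fun e => hx1 (by subst e; simp)⟩ le_rfl

variable [Finite G]

theorem Pair.cs (h : Min P S₁ S₂) (hp : Pair S₁ S₂ E₁ E₂) : IsCoreSeparated E₁ E₂ := by
  haveI : Fact (Nat.Prime 2) := ⟨Nat.prime_two⟩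
  have hinf : E₁ ⊓ E₂ = ⊥ := (eq_bot_iff_forall _).2 fun x hx =>
    h.toSetting.cls_inter (hp.cls₁ x hx.1) (hp.cls₂ x hx.2)
  refine ⟨hp.ea₁, hp.ea₂, hp.card₁, hp.card₂, fun e => ?_, hinf, hp.comm,
    fun a ha ha1 E hE => ?_⟩
  · rw [e, inf_idem] at hinf
    have := hp.card₂
    rw [hinf, Subgroup.card_bot] at this
    omega
  have hAc : E₁ ⊔ E₂ ≤ centralizer ({a} : Set G) := by
    have hh : E₁ ⊔ E₂ ≤ centralizer ((E₁ ⊔ E₂ : Subgroup G) : Set G) := by
      rw [le_centralizer_iff]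
      refine sup_le ?_ ?_ <;> rw [le_centralizer_iff] <;> refine sup_le ?_ ?_
      · exact Coprime.ea_le_centralizer hp.ea₁
      · exact fun y hy x hx => hp.comm x hx y hy
      · exact fun x hx y hy => (hp.comm x hx y hy).symm
      · exact Coprime.ea_le_centralizer hp.ea₂
    exact hh.trans (centralizer_le (Set.singleton_subset_iff.2 ha))
  set L := E.map (qmk a)
  have hLc : IsComponent L := hE.2.1
  have key : ∀ F : Subgroup G, F ≤ E₁ ⊔ E₂ →
      (∀ s : ↥(centralizer ({a} : Set G)), (s : G) ∈ F → qmk a s ∈ centralizer (L : Set _)) →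
      ⁅E.map (centralizer ({a} : Set G)).subtype, F⁆ ≤ Core a := by
    intro F hF hc
    rw [commutator_le]
    rintro _ ⟨e, he, rfl⟩ s hs
    have hsC : s ∈ centralizer ({a} : Set G) := hAc (hF hs)
    have h1 : qmk a ⁅e, (⟨s, hsC⟩ : ↥(centralizer ({a} : Set G)))⁆ = 1 := by
      rw [map_commutatorElement, commutatorElement_eq_one_iff_mul_comm]
      exact mem_centralizer_iff.1 (hc ⟨s, hsC⟩ hs) _ (mem_map_of_mem _ he)
    exact ⟨_, (QuotientGroup.eq_one_iff _).1 h1, rfl⟩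
  rcases Layer.component_le_or_commute hLc (Normal.isSubnormal (inferInstance : (Mbar a S₁).Normal))
    with hle | hcom
  · refine Or.inr (key E₂ le_sup_right fun s hs => ?_)
    refine mem_centralizer_iff.2 fun l hl => ?_
    exact mem_centralizer_iff.1 (h.symm.Mbar_le_centralizer ha1 (mem_Mbar (hp.cls₂ _ hs))) l (hle hl)
  · refine Or.inl (key E₁ le_sup_left fun s hs => ?_)
    refine mem_centralizer_iff.2 fun l hl => ?_
    exact Layer.commute_of_commutator_eq_bot hcom hl (mem_Mbar (hp.cls₁ _ hs))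

theorem Pair.W_props (h : Min P S₁ S₂) (hp : Pair S₁ S₂ E₁ E₂) :
    Odd (Nat.card (W E₁ E₂)) ∧
      ∀ a ∈ E₁ ⊔ E₂, a ≠ 1 → W E₁ E₂ ⊓ centralizer {a} = theta E₁ E₂ a := by
  haveI : Fact (Nat.Prime 2) := ⟨Nat.prime_two⟩
  have hcs := hp.cs h
  obtain ⟨hC, hodd, hinv, hbal⟩ := S1330.result E₁ E₂ hcs
  have hnorm : E₁ ≤ normalizer (E₂ : Set G) :=
    le_trans (fun x hx => mem_centralizer_iff.2 fun y hy => (hp.comm x hx y hy).symm)
      (centralizer_le_normalizer _)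
  have hcard : 2 ^ 3 ≤ Nat.card ↥(E₁ ⊔ E₂) := by
    rw [sup_comm, Coprime.card_sup_eq_mul hnorm (by rw [inf_comm]; exact hcs.2.2.2.2.2.1),
      hp.card₁, hp.card₂]
    norm_num
  have hh := S0217.result (p := 2) (E₁ ⊔ E₂) (fun a ha b hb => S1330.comm_sup hcs ha hb)
    (fun a ha => S1330.sq_eq_one hcs ha) hcard (theta E₁ E₂) hC hodd hinv
    (fun a ha ha1 => S0205.result (Nat.not_even_iff_odd.1 fun he =>
      hodd a ha ha1 (even_iff_two_dvd.1 he))) hbal
  exact ⟨Nat.not_even_iff_odd.1 fun he => hh.1 (even_iff_two_dvd.1 he), hh.2⟩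

omit [Finite G] in
theorem Pair.theta_le_W {a : G} (ha : a ∈ E₁ ⊔ E₂) (ha1 : a ≠ 1) :
    theta E₁ E₂ a ≤ W E₁ E₂ :=
  le_iSup (fun a : {a : G // a ∈ E₁ ⊔ E₂ ∧ a ≠ 1} => theta E₁ E₂ (a : G)) ⟨a, ha, ha1⟩

theorem Pair.le_normalizer_W (h : Min P S₁ S₂) (hp : Pair S₁ S₂ E₁ E₂) :
    E₁ ⊔ E₂ ≤ normalizer (W E₁ E₂ : Set G) := by
  obtain ⟨-, -, hinv, -⟩ := S1330.result E₁ E₂ (hp.cs h)
  refine Subgroup.le_normalizer_iff.2 fun b hb x hx => ?_
  have hle : W E₁ E₂ ≤ (W E₁ E₂).comap (MulAut.conj b).toMonoidHom :=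
    iSup_le fun a y hy => Subgroup.mem_comap.2
      (Pair.theta_le_W a.2.1 a.2.2 (hinv a.1 a.2.1 a.2.2 b hb y hy))
  exact hle hx

theorem Pair.W_eq_iSup (h : Min P S₁ S₂) (hp : Pair S₁ S₂ E₁ E₂) :
    W E₁ E₂ = ⨆ a ∈ {a : G | a ∈ E₁ ∧ a ≠ 1}, theta E₁ E₂ a := by
  haveI : Fact (Nat.Prime 2) := ⟨Nat.prime_two⟩
  haveI : IsMulCommutative E₁ := hp.ea₁.1
  obtain ⟨hodd, hC⟩ := hp.W_props h
  conv_lhs => rw [← Coprime.iSup_centralizer_eq (A := E₁) (K := W E₁ E₂)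
    (Coprime.ea_not_isCyclic hp.ea₁ (by rw [hp.card₁]; norm_num))
    (le_sup_left.trans (hp.le_normalizer_W h)) (S1330.coprime_four hp.ea₁ hodd)]
  exact iSup_congr fun a => iSup_congr fun ha => hC a (mem_sup_left ha.1) ha.2

theorem Pair.part_self (hp : Pair S₁ S₂ E₁ E₂) {x : G} (hx : x ∈ E₁) :
    part x E₁ = Core x := by
  have hn : E₁ ≤ normalizer ((Core x : Subgroup G) : Set G) :=
    (Coprime.ea_le_centralizer_singleton hp.ea₁ hx).trans (S1330.centralizer_le_normalizer_core x)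
  refine le_antisymm (sup_le (Coprime.commutator_le_of_le_normalizer hn) inf_le_left) ?_
  conv_lhs => rw [← Coprime.commutator_sup_centralizer hn
    (S1330.coprime_four hp.ea₁ (S1330.card_core_odd x)) (Or.inl (Coprime.ea_isSolvable hp.ea₁))]
  exact sup_le le_sup_left (le_trans (le_inf inf_le_left (S1330.le_RC hx)) le_sup_right)

theorem Pair.part_eq_phi (h : Min P S₁ S₂) (hp : Pair S₁ S₂ E₁ E₂) {x y : G} (hx : x ∈ E₁)
    (hy : y ∈ E₂) (hy1 : y ≠ 1) : part x E₂ = phi x y := by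
  haveI : Fact (Nat.Prime 2) := ⟨Nat.prime_two⟩
  have hxC : E₂ ≤ centralizer ({x} : Set G) := fun e he =>
    mem_centralizer_singleton_iff.2 (hp.comm x hx e he).symm
  have hyC : E₂ ≤ centralizer ({y} : Set G) := Coprime.ea_le_centralizer_singleton hp.ea₂ hy
  have hxy : x ∈ centralizer ({y} : Set G) := mem_centralizer_singleton_iff.2 (hp.comm x hx y hy)
  have hnx : E₂ ≤ normalizer ((Core x : Subgroup G) : Set G) :=
    hxC.trans (S1330.centralizer_le_normalizer_core x)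
  have hny : E₂ ≤ normalizer ((Core y : Subgroup G) : Set G) :=
    hyC.trans (S1330.centralizer_le_normalizer_core y)
  have hzy : zpowers y ≤ E₂ := zpowers_le.2 hy
  refine le_antisymm (sup_le ?_ ?_) (sup_le ?_ ?_)
  · rw [commutator_le]
    intro d hd e he
    have hdec := Coprime.commutator_sup_centralizer (A := zpowers y) (K := Core x) (hzy.trans hnx)
      ((S1330.coprime_four hp.ea₂ (S1330.card_core_odd x)).coprime_dvd_left (card_dvd_of_le hzy))
      (Or.inl (Coprime.isSolvable_of_le hzy (Coprime.ea_isSolvable hp.ea₂)))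
    rw [← hdec] at hd
    obtain ⟨n, hn, c, hc, rfl⟩ := (Coprime.mem_sup_of_le_normalizer
      (inf_le_left.trans (normalizer_commutator_ge_left _ _))).1 hd
    have hen : e ∈ normalizer ((⁅Core x, zpowers y⁆ : Subgroup G) : Set G) := by
      rw [mem_normalizer_iff_map_conj_eq, map_commutator]
      congr 1
      · show (Core x).map (MulAut.conj e).toMonoidHom = Core x
        rw [← Signalizer.core_conj, mem_centralizer_singleton_iff.1 (hxC he),
          mul_inv_cancel_right]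
      · rw [MonoidHom.map_zpowers]
        show zpowers (e * y * e⁻¹) = zpowers y
        rw [mem_centralizer_singleton_iff.1 (hyC he), mul_inv_cancel_right]
    have hne : ⁅n, e⁆ ∈ ⁅Core x, zpowers y⁆ := by
      rw [show ⁅n, e⁆ = n * (e * n⁻¹ * e⁻¹) by simp [commutatorElement_def, mul_assoc]]
      exact mul_mem hn ((mem_normalizer_iff.1 hen _).1 (inv_mem hn))
    have hcy : c ∈ centralizer ({y} : Set G) :=
      mem_centralizer_singleton_iff.2 (mem_centralizer_iff.1 hc.2 y (mem_zpowers y)).symm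
    have hce : ⁅c, e⁆ ∈ Core x := by
      rw [show ⁅c, e⁆ = c * (e * c⁻¹ * e⁻¹) by simp [commutatorElement_def, mul_assoc]]
      exact mul_mem hc.1 (S1330.conj_core (hxC he) (inv_mem hc.1))
    have hcey : ⁅c, e⁆ ∈ Core y := by
      have hm : ⁅c, e⁆ ∈ centralizer ({y} : Set G) :=
        mul_mem (mul_mem (mul_mem hcy (hyC he)) (inv_mem hcy)) (inv_mem (hyC he))
      rw [← Layer.mk_eq_one_iff_mem_centralizerPPrimeCore hm]
      show qmk y ⁅(⟨c, hcy⟩ : ↥(centralizer ({y} : Set G))), ⟨e, hyC he⟩⁆ = 1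
      rw [map_commutatorElement, commutatorElement_eq_one_iff_mul_comm]
      exact (mem_centralizer_iff.1 (h.centralizes hy1 (hp.cls₁ x hx) (hp.ea₁.2 x hx) hxy hc.1 hcy)
        _ (mem_Mbar (c := ⟨e, hyC he⟩) (hp.cls₂ e he))).symm
    rw [show ⁅n * c, e⁆ = n * ⁅c, e⁆ * n⁻¹ * ⁅n, e⁆ by
      simp [commutatorElement_def, mul_assoc]]
    exact mul_mem (mul_mem (mul_mem (mem_sup_left hn) (mem_sup_right ⟨hce, hcey⟩))
      (inv_mem (mem_sup_left hn))) (mem_sup_left hne)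
  · intro v hv
    have hvy : v ∈ centralizer ({y} : Set G) :=
      centralizer_le (Set.singleton_subset_iff.2 hy) (Layer.cCore_le E₂ hv.2)
    refine mem_sup_right ⟨hv.1, ?_⟩
    exact h.mem_core hy1 (hp.cls₁ x hx) (hp.ea₁.2 x hx) hxy hv.1 hvy
      (h.centralizes_four hy1 hp.ea₂ hp.cls₂ hyC hv.2 hvy)
  · exact (commutator_mono le_rfl hzy).trans le_sup_left
  · have hX := Coprime.commutator_sup_centralizer (A := E₂) (K := Core x ⊓ Core y)
      (Coprime.le_normalizer_inf hnx hny)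
      ((S1330.coprime_four hp.ea₂ (S1330.card_core_odd x)).coprime_dvd_right
        (card_dvd_of_le inf_le_left)) (Or.inl (Coprime.ea_isSolvable hp.ea₂))
    rw [← hX]
    refine sup_le ((commutator_mono inf_le_left le_rfl).trans le_sup_left) (le_trans ?_ le_sup_right)
    exact le_inf (inf_le_left.trans inf_le_left)
      ((inf_le_inf_right _ inf_le_right).trans (S1330.le_RC hy))

theorem Pair.theta_eq_phi (h : Min P S₁ S₂) (hp : Pair S₁ S₂ E₁ E₂) {x y : G} (hx : x ∈ E₁)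
    (hy : y ∈ E₂) (hy1 : y ≠ 1) : theta E₁ E₂ x = phi x y := by
  have hle : part x E₂ ≤ Core x := by
    have hcs := hp.cs h
    exact S1330.part_le_core (S1330.symm hcs) (by rw [sup_comm]; exact mem_sup_left hx)
  show part x E₁ ⊓ part x E₂ = phi x y
  rw [hp.part_self hx, inf_eq_right.2 hle, hp.part_eq_phi h hx hy hy1]

theorem Pair.W_eq_Wv (h : Min P S₁ S₂) (hp : Pair S₁ S₂ E₁ E₂) {y : G} (hy : y ∈ E₂) (hy1 : y ≠ 1) :
    W E₁ E₂ = Wv E₁ y := by
  rw [hp.W_eq_iSup h, Wv]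
  exact iSup_congr fun a => iSup_congr fun ha => hp.theta_eq_phi h ha.1 hy hy1

theorem Pair.share₂ (h : Min P S₁ S₂) (hp : Pair S₁ S₂ E₁ E₂) (hp' : Pair S₁ S₂ E₁ E₂') {y : G}
    (hy : y ∈ E₂) (hy' : y ∈ E₂') (hy1 : y ≠ 1) : W E₁ E₂ = W E₁ E₂' := by
  rw [hp.W_eq_Wv h hy hy1, hp'.W_eq_Wv h hy' hy1]

theorem Pair.share₁ (h : Min P S₁ S₂) (hp : Pair S₁ S₂ E₁ E₂) (hp' : Pair S₁ S₂ E₁' E₂) {x : G}
    (hx : x ∈ E₁) (hx' : x ∈ E₁') (hx1 : x ≠ 1) : W E₁ E₂ = W E₁' E₂ := by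
  rw [W_symm E₁, W_symm E₁', hp.symm.share₂ h.symm hp'.symm hx hx' hx1]

omit [Finite G] in
theorem Pair.exists_ne_one (hp : Pair S₁ S₂ E₁ E₂) : ∃ x ∈ E₁, x ≠ 1 := by
  by_contra! hc
  have := hp.card₁
  rw [(eq_bot_iff_forall E₁).2 hc, Subgroup.card_bot] at this
  omega

omit [Finite G] in
theorem Pair.map (hp : Pair S₁ S₂ E₁ E₂) (g : G) :
    Pair S₁ S₂ (E₁.map (MulAut.conj g).toMonoidHom) (E₂.map (MulAut.conj g).toMonoidHom) := by
  have hea : ∀ E : Subgroup G, IsElementaryAbelian 2 E →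
      IsElementaryAbelian 2 (E.map (MulAut.conj g).toMonoidHom) := fun E hE => by
    refine ⟨⟨⟨fun a b => Subtype.ext ?_⟩⟩, ?_⟩
    · obtain ⟨a', ha, hae⟩ := a.2
      obtain ⟨b', hb, hbe⟩ := b.2
      rw [Subgroup.coe_mul, Subgroup.coe_mul, ← hae, ← hbe, ← map_mul, ← map_mul,
        Coprime.ea_comm hE ha hb]
    · rintro _ ⟨a, ha, rfl⟩
      rw [← map_pow, hE.2 a ha, map_one]
  refine ⟨hea _ hp.ea₁, hea _ hp.ea₂, ?_, ?_, ?_, ?_, ?_⟩
  · rw [card_map_of_injective (MulAut.conj g).injective, hp.card₁]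
  · rw [card_map_of_injective (MulAut.conj g).injective, hp.card₂]
  · rintro _ ⟨e, he, rfl⟩; exact cls_conj (hp.cls₁ e he) g
  · rintro _ ⟨e, he, rfl⟩; exact cls_conj (hp.cls₂ e he) g
  · rintro _ ⟨a, ha, rfl⟩ _ ⟨b, hb, rfl⟩
    rw [← map_mul, ← map_mul, hp.comm a ha b hb]

theorem Pair.W_map (h : Min P S₁ S₂) (hp : Pair S₁ S₂ E₁ E₂) (g : G) :
    W (E₁.map (MulAut.conj g).toMonoidHom) (E₂.map (MulAut.conj g).toMonoidHom) =
      (W E₁ E₂).map (MulAut.conj g).toMonoidHom := by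
  obtain ⟨y, hy, hy1⟩ := hp.symm.exists_ne_one
  rw [hp.W_eq_Wv h hy hy1, Wv_conj,
    (hp.map g).W_eq_Wv h (y := g * y * g⁻¹) ⟨y, hy, rfl⟩ (by simpa using hy1)]

omit [Finite G] in
theorem Pair.commutator_le_W (hp : Pair S₁ S₂ E₁ E₂) {x y d : G}
    (hx : x ∈ E₁) (hy : y ∈ E₂) (hxy : x * y ≠ 1) (hd : d ∈ Core (x * y)) :
    ⁅d, x⁆ ∈ W E₁ E₂ := by
  refine Pair.theta_le_W (mul_mem (mem_sup_left hx) (mem_sup_right hy)) hxy ⟨?_, ?_⟩
  · exact mem_sup_left (commutator_mem_commutator hd hx)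
  · have e : ⁅d, x⁆ = ⁅d, y⁆ := by
      have h1 : d * (x * y) = x * y * d :=
        mem_centralizer_singleton_iff.1 (S1330.core_le _ hd)
      have hx2 : x * x = 1 := by rw [← pow_two]; exact hp.ea₁.2 x hx
      have hy2 : y * y = 1 := by rw [← pow_two]; exact hp.ea₂.2 y hy
      have hxy' := hp.comm x hx y hy
      have hxi : x⁻¹ = x := inv_eq_of_mul_eq_one_right hx2
      have hyi : y⁻¹ = y := inv_eq_of_mul_eq_one_right hy2
      have h2 : x * d⁻¹ * x = y * d⁻¹ * y := by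
        have h3 : x * y * d⁻¹ * (x * y) = d⁻¹ := by
          calc x * y * d⁻¹ * (x * y) = d⁻¹ * (d * (x * y)) * d⁻¹ * (x * y) := by group
            _ = d⁻¹ * ((x * y) * (x * y)) := by rw [h1]; group
            _ = d⁻¹ := by
              rw [show x * y * (x * y) = x * (y * x) * y by group, ← hxy']
              simp [← mul_assoc, hx2, hy2]
        calc x * d⁻¹ * x = x * (x * y * d⁻¹ * (x * y)) * x := by rw [h3]
          _ = (x * x) * y * d⁻¹ * ((x * y) * x) := by simp [mul_assoc]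
          _ = (x * x) * y * d⁻¹ * (y * (x * x)) := by rw [hxy']; simp [mul_assoc]
          _ = y * d⁻¹ * y := by rw [hx2, one_mul, mul_one]
      rw [commutatorElement_def, commutatorElement_def, hxi, hyi, mul_assoc d, mul_assoc d,
        mul_assoc d, mul_assoc d, h2]
    rw [e]
    exact mem_sup_left (commutator_mem_commutator hd hy)

end Cfsg.Agent.ProdFusion
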