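import Cfsg.Agent.ProdFusion.Basic
import Cfsg.Agent.S1330
import Cfsg.Agent.Invol.IsolatedApps

/-!
Product fusion: centralisers of involutions in a minimal counterexample.
-/

set_option autoImplicit false
set_option linter.style.haveILetI false

namespace Cfsg.Agent.ProdFusion

open Subgroup Cfsg
open scoped Pointwise commutatorElement
open S1330 (qmk)

universe u

variable {G : Type u} [Group G]

local notation "Core" x:max => centralizerPPrimeCore 2 x

/-- A simple minimal counterexample. -/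
structure Min (P : Sylow 2 G) (S₁ S₂ : Subgroup G) : Prop extends Setting P S₁ S₂ where
  ih : CTBelow.{u} (Nat.card G)
  simple : ∀ N : Subgroup G, N.Normal → N = ⊥ ∨ N = ⊤
  nc : center G = ⊥
  gen₁ : normalClosure (S₁ : Set G) = ⊤
  gen₂ : normalClosure (S₂ : Set G) = ⊤

variable {P : Sylow 2 G} {S S₁ S₂ : Subgroup G}

theorem Min.symm (h : Min P S₁ S₂) : Min P S₂ S₁ :=
  ⟨h.toSetting.symm, h.ih, h.simple, h.nc, h.gen₂, h.gen₁⟩

theorem Min.centralizer_ne_top (h : Min P S₁ S₂) {v : G} (hv : v ≠ 1) :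
    centralizer ({v} : Set G) ≠ ⊤ := fun e => by
  have hm : v ∈ center G := mem_center_iff.2 fun g =>
    mem_centralizer_singleton_iff.1 (e ▸ mem_top g)
  rw [h.nc, Subgroup.mem_bot] at hm
  exact hv hm

theorem mem_centralizer_of_commute {a v : G} (hc : Commute a v) : a ∈ centralizer ({v} : Set G) :=
  mem_centralizer_singleton_iff.2 hc.eq

/-- The image in `C(v) / O(C(v))` of the closure of `Cls S ∩ C(v)`. -/
def Mbar (v : G) (S : Subgroup G) :
    Subgroup (↥(centralizer ({v} : Set G)) ⧸ pPrimeCore 2 ↥(centralizer ({v} : Set G))) :=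
  normalClosure (qmk v '' {c : ↥(centralizer ({v} : Set G)) | (c : G) ∈ Cls S})

instance (v : G) (S : Subgroup G) : (Mbar v S).Normal := normalClosure_normal

theorem mem_Mbar {v : G} {c : ↥(centralizer ({v} : Set G))} (hc : (c : G) ∈ Cls S) :
    qmk v c ∈ Mbar v S := subset_normalClosure ⟨c, hc, rfl⟩

variable [Finite G]

theorem Min.Mbar_le_centralizer (h : Min P S₁ S₂) {v : G} (hv : v ≠ 1) :
    Mbar v S₁ ≤ centralizer ((Mbar v S₂ : Subgroup _) : Set _) := by
  have h1 : Mbar v S₂ ≤ centralizer ((Mbar v S₁ : Subgroup _) : Set _) := by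
    refine normalClosure_le_normal ?_
    rintro _ ⟨b, hb, rfl⟩
    rw [SetLike.mem_coe, mem_centralizer_iff]
    intro m hm
    refine closure_induction (p := fun m _ => m * qmk v b = qmk v b * m) ?_ ?_ ?_ ?_
      (show m ∈ closure (Group.conjugatesOfSet
        (qmk v '' {c : ↥(centralizer ({v} : Set G)) | (c : G) ∈ Cls S₁})) from hm)
    · intro m hm
      obtain ⟨_, ⟨a, ha, rfl⟩, hcon⟩ := Group.mem_conjugatesOfSet_iff.1 hm
      obtain ⟨c, rfl⟩ := isConj_iff.1 hcon
      obtain ⟨c, rfl⟩ := QuotientGroup.mk'_surjective _ c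
      have hmem := h.toSetting.comm_mem_core h.ih (h.centralizer_ne_top hv)
        (a := c * a * c⁻¹) (b := b) (cls_conj ha (c : G)) hb
      have e := (QuotientGroup.eq_one_iff _).2 hmem
      rw [← QuotientGroup.mk'_apply, map_commutatorElement,
        commutatorElement_eq_one_iff_mul_comm, map_mul, map_mul, map_inv] at e
      exact e
    · rw [one_mul, mul_one]
    · intro p q _ _ hp hq
      rw [mul_assoc, hq, ← mul_assoc, hp, mul_assoc]
    · intro p _ hp
      exact (Commute.inv_left (hp : Commute p (qmk v b))).eq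
  exact le_centralizer_iff.1 h1

/-- A normal subgroup centralising `R` meets `O(C(R))` trivially. -/
theorem inf_cCore_eq_bot {Q : Type*} [Group Q] [Finite Q] (hO : pPrimeCore 2 Q = ⊥)
    (N : Subgroup Q) [N.Normal] {R : Subgroup Q} (hR : N ≤ centralizer (R : Set Q)) :
    N ⊓ Layer.cCore 2 R = ⊥ := by
  haveI : Fact (Nat.Prime 2) := ⟨Nat.prime_two⟩
  set I := N ⊓ Layer.cCore 2 R with hI
  have hIN : N ≤ normalizer (I : Set Q) := Coprime.le_normalizer_inf le_normalizer
    (hR.trans ((centralizer_le_normalizer _).trans (Layer.normalizer_le_normalizer_cCore R)))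
  haveI := (normal_subgroupOf_iff_le_normalizer (H := I) (K := N) inf_le_left).mpr hIN
  have h1 : I.subgroupOf N ≤ pPrimeCore 2 ↥N := Core.le_pPrimeCore (by
    rw [Coprime.card_subgroupOf (inf_le_left : I ≤ N)]
    exact (Layer.coprime_card_cCore R).coprime_dvd_left (card_dvd_of_le inf_le_right))
  have h2 := map_mono (f := N.subtype) h1
  rw [Core.map_pPrimeCore_normal, hO, bot_inf_eq, map_subgroupOf_eq_of_le inf_le_left] at h2
  exact le_bot_iff.1 h2

theorem mem_centralizer_of_normal {Q : Type*} [Group Q] [Finite Q] (hO : pPrimeCore 2 Q = ⊥)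
    (N : Subgroup Q) [hN : N.Normal] {R : Subgroup Q} (hR : N ≤ centralizer (R : Set Q)) {w : Q}
    (hw : w ∈ Layer.cCore 2 R) : w ∈ centralizer (N : Set Q) := by
  refine mem_centralizer_iff.2 fun n hn => ?_
  have h1 : ⁅w, n⁆ ∈ N ⊓ Layer.cCore 2 R := by
    refine ⟨N.mul_mem (hN.conj_mem n hn w) (N.inv_mem hn), ?_⟩
    rw [show ⁅w, n⁆ = w * (n * w⁻¹ * n⁻¹) by simp [commutatorElement_def, mul_assoc]]
    have hn' : n ∈ normalizer ((Layer.cCore 2 R : Subgroup Q) : Set Q) :=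
      ((centralizer_le_normalizer _).trans (Layer.normalizer_le_normalizer_cCore R)) (hR hn)
    exact (Layer.cCore 2 R).mul_mem hw
      ((mem_normalizer_iff.1 hn' w⁻¹).1 ((Layer.cCore 2 R).inv_mem hw))
  rw [inf_cCore_eq_bot hO N hR, Subgroup.mem_bot, commutatorElement_eq_one_iff_mul_comm] at h1
  exact h1.symm

theorem Min.centralizes (h : Min P S₁ S₂) {v x w : G} (hv : v ≠ 1) (hx : x ∈ Cls S₁)
    (hx2 : x ^ 2 = 1) (hxv : x ∈ centralizer ({v} : Set G)) (hw : w ∈ Core x)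
    (hwv : w ∈ centralizer ({v} : Set G)) :
    qmk v ⟨w, hwv⟩ ∈ centralizer ((Mbar v S₂ : Subgroup _) : Set _) := by
  haveI : Fact (Nat.Prime 2) := ⟨Nat.prime_two⟩
  refine mem_centralizer_of_normal Core.pPrimeCore_quotient_eq_bot (Mbar v S₂) ?_
    (Layer.mk_mem_cCore hxv hx2 hwv hw)
  rw [le_centralizer_iff, zpowers_le]
  exact h.Mbar_le_centralizer hv (mem_Mbar (c := ⟨x, hxv⟩) hx)

theorem Min.centralizes_four (h : Min P S₁ S₂) {v w : G} (hv : v ≠ 1) {E : Subgroup G}
    (hE : IsElementaryAbelian 2 E) (hcls : ∀ e ∈ E, e ∈ Cls S₂)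
    (hEv : E ≤ centralizer ({v} : Set G)) (hw : w ∈ Layer.cCore 2 E)
    (hwv : w ∈ centralizer ({v} : Set G)) :
    qmk v ⟨w, hwv⟩ ∈ centralizer ((Mbar v S₁ : Subgroup _) : Set _) := by
  haveI : Fact (Nat.Prime 2) := ⟨Nat.prime_two⟩
  have hp : IsPGroup 2 ↥(E.subgroupOf (centralizer ({v} : Set G))) :=
    (Coprime.ea_isPGroup hE).comap_of_injective _ (Subgroup.subtype_injective _)
  have hker : (Nat.card (qmk v).ker).Coprime 2 := by
    rw [QuotientGroup.ker_mk']
    exact Core.coprime_card_pPrimeCore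
  refine mem_centralizer_of_normal Core.pPrimeCore_quotient_eq_bot (Mbar v S₁) ?_
    (Layer.map_cCore_le (QuotientGroup.mk'_surjective _) hker hp
      (mem_map_of_mem (qmk v) (x := ⟨w, hwv⟩) (Layer.cCore_mem_subgroup hEv hw)))
  rw [le_centralizer_iff]
  rintro _ ⟨e, he, rfl⟩
  exact h.symm.Mbar_le_centralizer hv (mem_Mbar (hcls _ he))

theorem Min.mem_core (h : Min P S₁ S₂) {v x w : G} (hv : v ≠ 1) (hx : x ∈ Cls S₁) (hx2 : x ^ 2 = 1)
    (hxv : x ∈ centralizer ({v} : Set G)) (hw : w ∈ Core x)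
    (hwv : w ∈ centralizer ({v} : Set G))
    (h1 : qmk v ⟨w, hwv⟩ ∈ centralizer ((Mbar v S₁ : Subgroup _) : Set _)) :
    w ∈ Core v := by
  haveI : Fact (Nat.Prime 2) := ⟨Nat.prime_two⟩
  rw [← Layer.mk_eq_one_iff_mem_centralizerPPrimeCore hwv]
  set R : Subgroup (↥(centralizer ({v} : Set G)) ⧸ pPrimeCore 2 ↥(centralizer ({v} : Set G))) :=
    centralizer (Mbar v S₁ : Set (↥(centralizer ({v} : Set G)) ⧸ pPrimeCore 2 ↥(centralizer ({v} : Set G)))) ⊓
      centralizer (Mbar v S₂ : Set (↥(centralizer ({v} : Set G)) ⧸ pPrimeCore 2 ↥(centralizer ({v} : Set G))))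
  have hb : qmk v ⟨w, hwv⟩ ∈ R ⊓ Layer.cCore 2 (zpowers (qmk v ⟨x, hxv⟩)) :=
    ⟨⟨h1, h.centralizes hv hx hx2 hxv hw hwv⟩, Layer.mk_mem_cCore hxv hx2 hwv hw⟩
  rw [inf_cCore_eq_bot Core.pPrimeCore_quotient_eq_bot R ?_] at hb
  · exact hb
  · rw [le_centralizer_iff, zpowers_le]
    exact fun m hm => (mem_centralizer_iff.1 hm.1 _ (mem_Mbar (c := ⟨x, hxv⟩) hx)).symm

theorem Min.isolated_pair (h : Min P S₁ S₂) {x y : G} (hx : x ∈ Cls S₁) (hx2 : orderOf x = 2)
    (hy : y ∈ Cls S₂) (hxy : Commute x y) :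
    IsIsolatedInvolution (⟨x, mem_centralizer_of_commute ((Commute.refl x).mul_right hxy)⟩ :
      ↥(centralizer ({x * y} : Set G))) := by
  haveI : Fact (Nat.Prime 2) := ⟨Nat.prime_two⟩
  set C := centralizer ({x * y} : Set G) with hC
  set X : ↥C := ⟨x, mem_centralizer_of_commute ((Commute.refl x).mul_right hxy)⟩ with hX
  set U : ↥C := ⟨x * y, mem_centralizer_of_commute (Commute.refl _)⟩ with hU
  obtain ⟨j, hj⟩ := isPGroup_zpowers_of_cls h.sc₁ hx
  obtain ⟨k, hk⟩ := isPGroup_zpowers_of_cls h.sc₂ hy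
  obtain ⟨R, hR⟩ := (IsPGroup.of_card (n := j) (show Nat.card (zpowers X) = 2 ^ j by
    rw [Nat.card_zpowers, ← Subgroup.orderOf_coe]; exact hj)).exists_le_sylow
  have hUc : ∀ c : ↥C, c * U = U * c := fun c =>
    Subtype.ext (mem_centralizer_singleton_iff.1 c.2)
  have hUR : U ∈ R := by
    haveI : (zpowers U).Normal := ⟨fun n hn c => by
      obtain ⟨i, rfl⟩ := mem_zpowers_iff.1 hn
      rw [((show Commute c U from hUc c).zpow_right i).eq, mul_inv_cancel_right]
      exact zpow_mem (mem_zpowers _) _⟩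
    have hU2 : IsPGroup 2 ↥(zpowers U) := by
      intro w
      obtain ⟨i, hi⟩ := mem_zpowers_iff.1 w.2
      refine ⟨j + k, Subtype.ext (Subtype.ext ?_)⟩
      rw [SubmonoidClass.coe_pow, ← hi, SubmonoidClass.coe_pow, SubgroupClass.coe_zpow, ← zpow_natCast,
        ← zpow_mul, mul_comm, zpow_mul, zpow_natCast]
      have e1 : x ^ 2 ^ (j + k) = 1 := by rw [pow_add, pow_mul, ← hj, pow_orderOf_eq_one, one_pow]
      have e2 : y ^ 2 ^ (j + k) = 1 := by
        rw [pow_add, mul_comm, pow_mul, ← hk, pow_orderOf_eq_one, one_pow]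
      show ((x * y) ^ 2 ^ (j + k)) ^ i = 1
      rw [hxy.mul_pow, e1, e2, one_mul, one_zpow]
    exact ((Core.le_pCore hU2).trans (Core.pCore_le_sylow R)) (mem_zpowers U)
  obtain ⟨Q, hQ⟩ := (R.2.map C.subtype).exists_le_sylow
  obtain ⟨g, hg⟩ := MulAction.exists_smul_eq G Q P
  have hgP : ∀ t : ↥C, t ∈ R → g * (t : G) * g⁻¹ ∈ P := fun t ht => by
    rw [← hg]
    show g * (t : G) * g⁻¹ ∈ ((g • Q : Sylow 2 G) : Subgroup G)
    rw [Sylow.coe_subgroup_smul]
    exact ⟨t, hQ ⟨t, ht, rfl⟩, rfl⟩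
  refine Invol.isolated_of_sylow R (by rw [← Subgroup.orderOf_coe]; exact hx2) fun c hc => ?_
  have hYR : X⁻¹ * U ∈ R := mul_mem (inv_mem (hR (mem_zpowers X))) hUR
  have hY'R : (c * X * c⁻¹)⁻¹ * U ∈ R := mul_mem (inv_mem hc) hUR
  have hY : ((X⁻¹ * U : ↥C) : G) = y := by simp [hX, hU]
  have hY' : (c * X * c⁻¹)⁻¹ * U = c * (X⁻¹ * U) * c⁻¹ := by
    rw [mul_inv_rev, mul_inv_rev, inv_inv, mul_assoc c (X⁻¹ * U) c⁻¹, mul_assoc X⁻¹ U c⁻¹,
      ← (show Commute c⁻¹ U from (show Commute c U from hUc c).inv_left).eq]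
    simp [mul_assoc]
  have a1 := mem_of_cls h.sc₁ (cls_conj hx g) (hgP X (hR (mem_zpowers X)))
  have a2 := mem_of_cls h.sc₁ (cls_conj (cls_conj (x := x) hx (c : G)) g) (hgP _ hc)
  have b1 := mem_of_cls h.sc₂ (cls_conj hy g) (hY ▸ hgP _ hYR)
  have b2 := mem_of_cls h.sc₂ (cls_conj (cls_conj (x := y) hy (c : G)) g) (by
    have := hgP _ hY'R
    rw [hY'] at this
    rwa [← hY])
  have e : g * ((c : G) * x * (c : G)⁻¹) * g⁻¹ * (g * ((c : G) * y * (c : G)⁻¹) * g⁻¹) =
      g * x * g⁻¹ * (g * y * g⁻¹) := by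
    have := congrArg Subtype.val (hUc c)
    simp only [Subgroup.coe_mul, hU] at this
    calc _ = g * ((c : G) * (x * y) * (c : G)⁻¹) * g⁻¹ := by group
      _ = g * (x * y) * g⁻¹ := by rw [this]; group
      _ = _ := by group
  have hm : (g * x * g⁻¹)⁻¹ * (g * ((c : G) * x * (c : G)⁻¹) * g⁻¹) ∈ S₁ ⊓ S₂ := by
    refine ⟨S₁.mul_mem (S₁.inv_mem a1) a2, ?_⟩
    have e' : (g * x * g⁻¹)⁻¹ * (g * ((c : G) * x * (c : G)⁻¹) * g⁻¹) =
        g * y * g⁻¹ * (g * ((c : G) * y * (c : G)⁻¹) * g⁻¹)⁻¹ := by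
      rw [eq_mul_inv_iff_mul_eq, mul_assoc, e, inv_mul_cancel_left]
    rw [e']
    exact S₂.mul_mem b1 (S₂.inv_mem b2)
  rw [h.disj, Subgroup.mem_bot, inv_mul_eq_one] at hm
  exact Subtype.ext (mul_left_cancel (mul_right_cancel hm)).symm

theorem Min.core_pair_le (h : Min P S₁ S₂) {x y : G} (hx : x ∈ Cls S₁) (hx2 : orderOf x = 2)
    (hy : y ∈ Cls S₂) (hxy : Commute x y) :
    Layer.cCore 2 (closure ({x, y} : Set G)) ≤ Core (x * y) := by
  haveI : Fact (Nat.Prime 2) := ⟨Nat.prime_two⟩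
  set C := centralizer ({x * y} : Set G) with hC
  have hz := h.isolated_pair hx hx2 hy hxy
  set X : ↥C := ⟨x, mem_centralizer_of_commute ((Commute.refl x).mul_right hxy)⟩ with hX
  set D := Layer.cCore 2 (closure ({x, y} : Set G)) with hD
  have hcl : centralizer ((closure ({x, y} : Set G) : Subgroup G) : Set G) =
      centralizer ({x, y} : Set G) := centralizer_closure _
  have hDle : D ≤ centralizer ({x, y} : Set G) := hcl ▸ Layer.cCore_le _
  have hDC : D ≤ C := fun d hd => by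
    have e1 : Commute x d := mem_centralizer_iff.1 (hDle hd) x (by simp)
    have e2 : Commute y d := mem_centralizer_iff.1 (hDle hd) y (by simp)
    exact mem_centralizer_of_commute (e1.mul_left e2).symm
  set D' := D.subgroupOf C with hD'
  have hcop : (Nat.card D').Coprime 2 := by
    rw [Coprime.card_subgroupOf hDC]; exact Layer.coprime_card_cCore _
  set J : Subgroup ↥C := oddCore ↥C ⊔ D' with hJ
  haveI : J.Normal := by
    rw [← normalizer_eq_top_iff, eq_top_iff]
    intro c _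
    obtain ⟨o, ho, hc⟩ := Invol.isolated_decomp hz c
    have h1 : o ∈ normalizer (J : Set ↥C) := le_normalizer (mem_sup_left ho)
    suffices h2 : o⁻¹ * c ∈ normalizer (J : Set ↥C) by
      simpa using mul_mem h1 h2
    have hcG : Commute (((o⁻¹ * c : ↥C)) : G) x := congrArg Subtype.val hc.eq
    have hcy : Commute (((o⁻¹ * c : ↥C)) : G) y := by
      have e : Commute (((o⁻¹ * c : ↥C)) : G) (x * y) :=
        mem_centralizer_singleton_iff.1 (o⁻¹ * c : ↥C).2
      have := hcG.inv_right.mul_right e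
      rwa [inv_mul_cancel_left] at this
    have hn : (((o⁻¹ * c : ↥C)) : G) ∈ normalizer (D : Set G) := by
      refine ((centralizer_le_normalizer _).trans (Layer.normalizer_le_normalizer_cCore _)) ?_
      rw [hcl]
      refine mem_centralizer_iff.2 ?_
      rintro t (rfl | rfl)
      · exact hcG.symm.eq
      · exact hcy.symm.eq
    refine Coprime.le_normalizer_sup (A := zpowers (o⁻¹ * c)) ?_ ?_ (mem_zpowers _)
    · exact le_top.trans (normalizer_eq_top (H := oddCore ↥C)).ge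
    · rw [zpowers_le, hD', mem_normalizer_iff]
      intro d
      rw [mem_subgroupOf, mem_subgroupOf]
      exact mem_normalizer_iff.1 hn (d : G)
  have hJodd : (Nat.card J).Coprime 2 := by
    rw [hJ, sup_comm]
    exact Nat.Coprime.coprime_dvd_left (Core.card_sup_dvd_mul D' (oddCore ↥C))
      (hcop.mul_left Core.coprime_card_pPrimeCore)
  have hle : D' ≤ pPrimeCore 2 ↥C := le_sup_right.trans (Core.le_pPrimeCore (N := J) hJodd)
  rw [← map_subgroupOf_eq_of_le hDC]
  exact map_mono hle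

end Cfsg.Agent.ProdFusion
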