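import Cfsg.Agent.ProdFusion.Endgame
import Cfsg.Agent.S1251
import Cfsg.Agent.Layer.CoreBalance
import Cfsg.Agent.Invol.ZStarElt

/-!
Product fusion: the commutator of the two closures lies in the core.
-/

set_option autoImplicit false
set_option linter.style.haveILetI false

namespace Cfsg.Agent.ProdFusion

open Subgroup Cfsg
open scoped Pointwise commutatorElement

universe u

variable {G : Type u} [Group G] [Finite G] {P : Sylow 2 G} {S₁ S₂ : Subgroup G}

/-- A normal subgroup which is odd over a central normal `2`-subgroup lies in it. -/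
theorem comap_core_inf_le (hO : oddCore G = ⊥) (N T : Subgroup G) [N.Normal] [T.Normal]
    (hc : ∀ t ∈ T, ∀ n ∈ N, n * t = t * n) :
    (oddCore (G ⧸ T)).comap (QuotientGroup.mk' T) ⊓ N ≤ T := by
  haveI : Fact (Nat.Prime 2) := ⟨Nat.prime_two⟩
  haveI : (oddCore (G ⧸ T)).Normal := Core.pPrimeCore_normal
  set f := QuotientGroup.mk' T with hf
  set J := (oddCore (G ⧸ T)).comap f ⊓ N with hJ
  intro d hd
  let g : ↥J →* G ⧸ T := f.comp J.subtype
  have hker : g.ker ≤ center ↥J := fun t ht => mem_center_iff.2 fun x =>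
    Subtype.ext (hc t ((QuotientGroup.eq_one_iff (t : G)).1 ht) x x.2.2)
  have hodd : ∀ e : ↥J, (orderOf e).Coprime 2 → e = 1 := by
    intro e he
    have h1 := Layer.mem_oddCore_of_central_ker g hker he e.2.1
    have h2 := mem_map_of_mem J.subtype h1
    haveI : J.Normal := by rw [hJ]; infer_instance
    rw [show oddCore ↥J = pPrimeCore 2 ↥J from rfl, Core.map_pPrimeCore_normal,
      show pPrimeCore 2 G = ⊥ from hO, bot_inf_eq, Subgroup.mem_bot] at h2
    exact Subtype.ext h2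
  obtain ⟨a, b, hb, hab⟩ := Nat.exists_eq_two_pow_mul_odd (n := orderOf (⟨d, hd⟩ : ↥J))
    (orderOf_pos _).ne'
  have h1 : (⟨d, hd⟩ : ↥J) ^ 2 ^ a = 1 := hodd _ (by
    rw [orderOf_pow_of_dvd (by positivity) ⟨b, hab⟩, hab,
      Nat.mul_div_cancel_left _ (by positivity)]
    exact Nat.coprime_two_right.2 hb)
  have h2 : orderOf (f d) = 1 := Nat.eq_one_of_dvd_coprimes
    ((Core.coprime_card_pPrimeCore (p := 2) (G := G ⧸ T)).pow_right a)
    (Subgroup.orderOf_dvd_natCard _ hd.1)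
    (orderOf_dvd_of_pow_eq_one (by
      rw [← map_pow, show d ^ 2 ^ a = 1 from congrArg Subtype.val h1, map_one]))
  exact (QuotientGroup.eq_one_iff d).1 (orderOf_eq_one_iff.1 h2)

theorem Setting.commute_of_mem_pgroup (h : Setting P S₁ S₂) {a b : G} (ha : a ∈ Cls S₁)
    (hb : b ∈ Cls S₂) {Q : Subgroup G} (hQ : IsPGroup 2 Q) (haQ : a ∈ Q) (hbQ : b ∈ Q) :
    Commute a b := by
  obtain ⟨R, hR⟩ := hQ.exists_le_sylow
  obtain ⟨g, hg⟩ := MulAction.exists_smul_eq G R P
  have hgP : ∀ x ∈ R, g * x * g⁻¹ ∈ P := fun x hx => by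
    rw [← hg]
    show g * x * g⁻¹ ∈ ((g • R : Sylow 2 G) : Subgroup G)
    rw [Sylow.coe_subgroup_smul]
    exact ⟨x, hx, rfl⟩
  exact (Commute.conj_iff g).1 (h.comm _ (mem_of_cls h.sc₁ (cls_conj ha g) (hgP a (hR haQ))) _
    (mem_of_cls h.sc₂ (cls_conj hb g) (hgP b (hR hbQ))))

theorem Setting.eq_one_of_mem (h : Setting P S₁ S₂) (T : Subgroup G) [T.Normal] (hT : IsPGroup 2 T)
    {a b : G} (ha : a ∈ Cls S₁) (hb : b ∈ Cls S₂) (hab : ⁅a, b⁆ ∈ T) : ⁅a, b⁆ = 1 := by
  haveI : Fact (Nat.Prime 2) := ⟨Nat.prime_two⟩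
  have hz : ∀ {S : Subgroup G}, IsStronglyClosed S (P : Subgroup G) → ∀ x ∈ Cls S,
      IsPGroup 2 ↥(zpowers x) := fun {S} hS x hx => by
    obtain ⟨j, hj⟩ := isPGroup_zpowers_of_cls hS hx
    exact IsPGroup.of_card (n := j) (by rw [Nat.card_zpowers, hj])
  set X := zpowers b ⊔ T with hX
  have hXp : IsPGroup 2 ↥X := (hz h.sc₂ b hb).to_sup_of_normal_right hT
  have hbX : b ∈ X := mem_sup_left (mem_zpowers b)
  have hle : X ≤ X.comap (MulAut.conj a).toMonoidHom := by
    refine sup_le (zpowers_le.2 ?_) fun t ht => mem_sup_right (Normal.conj_mem ‹T.Normal› t ht a)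
    show a * b * a⁻¹ ∈ X
    rw [show a * b * a⁻¹ = ⁅a, b⁆ * b by rw [commutatorElement_def]; group]
    exact mul_mem (mem_sup_right hab) hbX
  have haN : a ∈ normalizer (X : Set G) :=
    Layer.mem_normalizer_of_conj_mem fun x hx => hle hx
  have hQ : IsPGroup 2 ↥(zpowers a ⊔ X) :=
    (hz h.sc₁ a ha).to_sup_of_normal_right' hXp (zpowers_le.2 haN)
  exact commutatorElement_eq_one_iff_commute.2 (h.commute_of_mem_pgroup ha hb hQ
    (mem_sup_left (mem_zpowers a)) (mem_sup_right hbX))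

/-- The case of a proper normal closure. -/
theorem Setting.proper_case (h : Setting P S₁ S₂) (ih : CTBelow.{u} (Nat.card G))
    (hO : oddCore G = ⊥) (hN : normalClosure (S₁ : Set G) ≠ ⊤) {a b : G} (ha : a ∈ Cls S₁)
    (hb : b ∈ Cls S₂) : ⁅a, b⁆ = 1 := by
  haveI : Fact (Nat.Prime 2) := ⟨Nat.prime_two⟩
  set N := normalClosure (S₁ : Set G) with hNdef
  have hON : oddCore ↥N = ⊥ := by
    have h1 : (oddCore ↥N).map N.subtype = ⊥ := by
      rw [show oddCore ↥N = pPrimeCore 2 ↥N from rfl, Core.map_pPrimeCore_normal,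
        show pPrimeCore 2 G = ⊥ from hO, bot_inf_eq]
    exact (map_eq_bot_iff_of_injective _ N.subtype_injective).1 h1
  -- elements of `Cls S₂ ∩ N` are central in `N`
  have hcentral : ∀ t ∈ Cls S₂, t ∈ N → ∀ n ∈ N, n * t = t * n := by
    intro t ht htN n hn
    refine closure_induction (p := fun n _ => n * t = t * n) ?_ (by simp) ?_ ?_
      (show n ∈ closure (Group.conjugatesOfSet (S₁ : Set G)) from hn)
    · intro c hc
      obtain ⟨c₀, hc₀, hcon⟩ := Group.mem_conjugatesOfSet_iff.1 hc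
      obtain ⟨g, rfl⟩ := isConj_iff.1 hcon
      have hcN : g * c₀ * g⁻¹ ∈ N := subset_closure hc
      have hm := h.comm_mem_core ih hN (a := ⟨_, hcN⟩) (b := ⟨t, htN⟩)
        (cls_conj (mem_cls_of_mem hc₀) g) ht
      rw [hON, Subgroup.mem_bot, commutatorElement_eq_one_iff_mul_comm] at hm
      exact congrArg Subtype.val hm
    · intro p q _ _ hp hq
      rw [mul_assoc, hq, ← mul_assoc, hp, mul_assoc]
    · intro p _ hp
      exact (Commute.inv_left (hp : Commute p t)).eq
  set T := S₂ ⊓ N with hT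
  have hTp : IsPGroup 2 ↥T := P.2.to_le (inf_le_left.trans h.sc₂.1)
  haveI : T.Normal := by
    refine ⟨fun t ht g => ⟨?_, normalClosure_normal.conj_mem t ht.2 g⟩⟩
    set t' := g * t * g⁻¹ with ht'
    have htN : t' ∈ N := normalClosure_normal.conj_mem t ht.2 g
    have htC : t' ∈ Cls S₂ := cls_conj (mem_cls_of_mem ht.1) g
    obtain ⟨j, hj⟩ := isPGroup_zpowers_of_cls h.sc₂ htC
    have hc' := hcentral t' htC htN
    haveI : (zpowers (⟨t', htN⟩ : ↥N)).Normal := ⟨fun x hx y => by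
      obtain ⟨i, rfl⟩ := mem_zpowers_iff.1 hx
      rw [((show Commute y (⟨t', htN⟩ : ↥N) from Subtype.ext (hc' y y.2)).zpow_right i).eq,
        mul_inv_cancel_right]
      exact zpow_mem (mem_zpowers _) _⟩
    have h1 : (⟨t', htN⟩ : ↥N) ∈ pCore 2 ↥N := Core.le_pCore (IsPGroup.of_card (n := j)
      (by rw [Nat.card_zpowers, Subgroup.orderOf_mk, hj])) (mem_zpowers _)
    have h2 := mem_map_of_mem N.subtype h1
    rw [Core.map_pCore_normal] at h2
    exact mem_of_cls h.sc₂ htC (Core.pCore_le_sylow P h2.1)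
  have haN : a ∈ N := cls_le_normalClosure ha
  by_cases hTb : T = ⊥
  · have hc := S1251.result P S₂ h.sc₂ N (le_top.trans (normalizer_eq_top (H := N)).ge) hON hTb
    obtain ⟨g, hg⟩ := hb
    have hcm : Commute (g * a * g⁻¹) (g * b * g⁻¹) :=
      mem_centralizer_iff.1 (hc hg) _ (normalClosure_normal.conj_mem a haN g)
    exact commutatorElement_eq_one_iff_commute.2 ((Commute.conj_iff g).1 hcm)
  have hset := h.map_mk T fun x hx y hy hxy => by
    have hx2 : x ∈ S₁ ⊓ S₂ := ⟨hx, (S₂.mul_mem_cancel_right hy).1 hxy.1⟩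
    rw [h.disj, Subgroup.mem_bot] at hx2
    exact hx2 ▸ one_mem _
  have hm := ih (G ⧸ T) (Core.card_quotient_lt hTb) _ _ _ hset _ (cls_map _ ha) _ (cls_map _ hb)
  rw [← map_commutatorElement] at hm
  have hN' : ⁅a, b⁆ ∈ N := by
    rw [show ⁅a, b⁆ = a * (b * a⁻¹ * b⁻¹) by simp [commutatorElement_def, mul_assoc]]
    exact mul_mem haN (normalClosure_normal.conj_mem _ (inv_mem haN) b)
  exact h.eq_one_of_mem T hTp ha hb
    (comap_core_inf_le hO N T (fun t ht n hn => hcentral t (mem_cls_of_mem ht.1) ht.2 n hn)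
      ⟨hm, hN'⟩)

/-- The case of a central involution. -/
theorem Setting.central_case (h : Setting P S₁ S₂) (ih : CTBelow.{u} (Nat.card G))
    (hO : oddCore G = ⊥) {z : G} (hz : z ∈ center G) (hz2 : orderOf z = 2) {a b : G}
    (ha : a ∈ Cls S₁) (hb : b ∈ Cls S₂) : ⁅a, b⁆ = 1 := by
  haveI : Fact (Nat.Prime 2) := ⟨Nat.prime_two⟩
  obtain ⟨z, hz, hz2, hgood⟩ : ∃ z ∈ center G, orderOf z = 2 ∧
      ∀ x ∈ S₁, ∀ y ∈ S₂, x * y = z → x = z ∨ x = 1 := by
    by_cases hg : ∀ x ∈ S₁, ∀ y ∈ S₂, x * y = z → x = z ∨ x = 1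
    · exact ⟨z, hz, hz2, hg⟩
    · push Not at hg
      obtain ⟨x, hx, y, hy, hxy, hxz, hx1⟩ := hg
      have hx2 : orderOf x = 2 := by
        refine Invol.orderOf_eq_two_iff.2 ⟨hx1, ?_⟩
        have hm : x * x ∈ S₁ ⊓ S₂ := by
          refine ⟨mul_mem hx hx, ?_⟩
          have e : x * x * (y * y) = 1 := by
            rw [show x * x * (y * y) = x * (x * y) * y by group, h.comm x hx y hy]
            rw [show x * (y * x) * y = (x * y) * (x * y) by group, hxy, Invol.mul_self_eq_one hz2]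
          rw [eq_inv_of_mul_eq_one_left e]
          exact S₂.inv_mem (S₂.mul_mem hy hy)
        rw [h.disj, Subgroup.mem_bot] at hm
        exact hm
      have hiso : IsIsolatedInvolution x := Invol.isolated_of_sylow P hx2 fun g hg => by
        have h1 := h.sc₁.2 x hx g hg
        have e1 : g * x * g⁻¹ * (g * y * g⁻¹) = z := by
          rw [show g * x * g⁻¹ * (g * y * g⁻¹) = g * (x * y) * g⁻¹ by group, hxy,
            mem_center_iff.1 hz g, mul_inv_cancel_right]
        have h2 : g * y * g⁻¹ ∈ S₂ := h.sc₂.2 y hy g (by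
          rw [eq_inv_mul_of_mul_eq e1]
          exact mul_mem (inv_mem hg) (hxy ▸ mul_mem (h.sc₁.1 hx) (h.sc₂.1 hy)))
        have hm : x⁻¹ * (g * x * g⁻¹) ∈ S₁ ⊓ S₂ := by
          refine ⟨S₁.mul_mem (S₁.inv_mem hx) h1, ?_⟩
          rw [eq_mul_inv_of_mul_eq e1, ← hxy, mul_assoc, inv_mul_cancel_left]
          exact S₂.mul_mem hy (S₂.inv_mem h2)
        rw [h.disj, Subgroup.mem_bot, inv_mul_eq_one] at hm
        exact hm.symm
      refine ⟨x, mem_center_iff.2 fun g => ?_, hx2, fun x' hx' y' hy' e => ?_⟩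
      · have e := Invol.zstar hiso g
        rw [hO, Subgroup.mem_bot, mul_inv_eq_one, mul_inv_eq_iff_eq_mul] at e
        exact e.symm
      · have hm : x'⁻¹ * x ∈ S₁ ⊓ S₂ := by
          refine ⟨S₁.mul_mem (S₁.inv_mem hx') hx, ?_⟩
          rw [← e, inv_mul_cancel_left]
          exact hy'
        rw [h.disj, Subgroup.mem_bot, inv_mul_eq_one] at hm
        exact Or.inl hm
  set T := zpowers z with hT
  haveI : T.Normal := ⟨fun x hx g => by
    obtain ⟨i, rfl⟩ := mem_zpowers_iff.1 hx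
    rw [((show Commute g z from mem_center_iff.1 hz g).zpow_right i).eq, mul_inv_cancel_right]
    exact zpow_mem (mem_zpowers _) _⟩
  have hTp : IsPGroup 2 ↥T := IsPGroup.of_card (n := 1) (by rw [hT, Nat.card_zpowers, hz2, pow_one])
  have hTne : T ≠ ⊥ := fun e => Invol.ne_one hz2 (zpowers_eq_bot.1 e)
  have hmem : ∀ t ∈ T, t = 1 ∨ t = z := fun t ht => by
    by_cases ht1 : t = 1
    · exact Or.inl ht1
    refine Or.inr (Invol.eq_of_mem_zpowers_of_orderOf_two ?_ hz2 ht (mem_zpowers z))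
    have := Subgroup.orderOf_dvd_natCard _ ht
    rw [Nat.card_zpowers, hz2] at this
    rcases (Nat.dvd_prime Nat.prime_two).1 this with e | e
    · exact absurd (orderOf_eq_one_iff.1 e) ht1
    · exact e
  have hset := h.map_mk T fun x hx y hy hxy => by
    rcases hmem _ hxy with e | e
    · have hx2 : x ∈ S₁ ⊓ S₂ := ⟨hx, (S₂.mul_mem_cancel_right hy).1 (e ▸ one_mem _)⟩
      rw [h.disj, Subgroup.mem_bot] at hx2
      exact hx2 ▸ one_mem _
    · rcases hgood x hx y hy e with e' | e' <;> rw [e']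
      exacts [mem_zpowers z, one_mem _]
  have hm := ih (G ⧸ T) (Core.card_quotient_lt hTne) _ _ _ hset _ (cls_map _ ha) _ (cls_map _ hb)
  rw [show oddCore (G ⧸ T) = ⊥ from Invol.oddCore_quotient_eq_bot_of_central hO hz hz2,
    Subgroup.mem_bot, ← map_commutatorElement] at hm
  exact h.eq_one_of_mem T hTp ha hb ((QuotientGroup.eq_one_iff _).1 hm)

theorem Setting.normal_le_center (h : Setting P S₁ S₂) (hO : oddCore G = ⊥) (K : Subgroup G)
    [K.Normal] (hgen : normalClosure (S₁ : Set G) = ⊤) (hd : S₁ ⊓ K = ⊥) : K ≤ center G := by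
  have hOK : oddCore ↥K = ⊥ := by
    have h1 : (oddCore ↥K).map K.subtype = ⊥ := by
      rw [show oddCore ↥K = pPrimeCore 2 ↥K from rfl, Core.map_pPrimeCore_normal,
        show pPrimeCore 2 G = ⊥ from hO, bot_inf_eq]
    exact (map_eq_bot_iff_of_injective _ K.subtype_injective).1 h1
  have hc := S1251.result P S₁ h.sc₁ K (le_top.trans (normalizer_eq_top (H := K)).ge) hOK hd
  have hall : normalClosure (S₁ : Set G) ≤ centralizer (K : Set G) :=
    normalClosure_le_normal hc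
  rw [hgen, top_le_iff, centralizer_eq_top_iff_subset] at hall
  exact hall

/-- The induction step. -/
theorem ct_step (ih : CTBelow.{u} (Nat.card G)) : CT G := by
  haveI : Fact (Nat.Prime 2) := ⟨Nat.prime_two⟩
  intro P S₁ S₂ h a ha b hb
  by_cases hO : oddCore G = ⊥
  swap
  · haveI : (oddCore G).Normal := Core.pPrimeCore_normal
    have hset := h.map_mk (oddCore G) fun x hx y hy hxy => by
      obtain ⟨j, hj⟩ := IsPGroup.iff_orderOf.1 P.2 ⟨_, mul_mem (h.sc₁.1 hx) (h.sc₂.1 hy)⟩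
      rw [Subgroup.orderOf_mk] at hj
      have e : x * y = 1 := orderOf_eq_one_iff.1 (Nat.eq_one_of_dvd_coprimes
        ((Core.coprime_card_pPrimeCore (p := 2) (G := G)).pow_right j)
        (Subgroup.orderOf_dvd_natCard _ hxy) hj.dvd)
      have hx2 : x ∈ S₁ ⊓ S₂ := ⟨hx, by rw [eq_inv_of_mul_eq_one_left e]; exact S₂.inv_mem hy⟩
      rw [h.disj, Subgroup.mem_bot] at hx2
      exact hx2 ▸ one_mem _
    have hm := ih (G ⧸ oddCore G) (Core.card_quotient_lt hO) _ _ _ hset _ (cls_map _ ha) _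
      (cls_map _ hb)
    rw [show oddCore (G ⧸ oddCore G) = ⊥ from Core.pPrimeCore_quotient_eq_bot,
      Subgroup.mem_bot, ← map_commutatorElement] at hm
    exact (QuotientGroup.eq_one_iff _).1 hm
  rw [hO, Subgroup.mem_bot]
  by_cases hN1 : normalClosure (S₁ : Set G) = ⊤
  swap
  · exact h.proper_case ih hO hN1 ha hb
  by_cases hN2 : normalClosure (S₂ : Set G) = ⊤
  swap
  · have e := h.symm.proper_case ih hO hN2 hb ha
    rw [← commutatorElement_inv, e, inv_one]
  by_cases hc : center G = ⊥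
  swap
  · haveI : Nontrivial ↥(center G) := (center G).nontrivial_iff_ne_bot.2 hc
    obtain ⟨q, hq, hqd⟩ := Nat.exists_prime_and_dvd
      (n := Nat.card (center G)) (by have := Finite.one_lt_card (α := ↥(center G)); omega)
    haveI : Fact q.Prime := ⟨hq⟩
    obtain ⟨z, hz⟩ := exists_prime_orderOf_dvd_card' q hqd
    rw [← Subgroup.orderOf_coe] at hz
    by_cases hq2 : q = 2
    · exact h.central_case ih hO z.2 (hq2 ▸ hz) ha hb
    · haveI : (zpowers (z : G)).Normal := ⟨fun x hx g => by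
        obtain ⟨i, rfl⟩ := mem_zpowers_iff.1 hx
        rw [((show Commute g (z : G) from mem_center_iff.1 z.2 g).zpow_right i).eq,
          mul_inv_cancel_right]
        exact zpow_mem (mem_zpowers _) _⟩
      have hle : zpowers (z : G) ≤ oddCore G := Core.le_pPrimeCore (by
        rw [Nat.card_zpowers, hz]
        exact (Nat.coprime_primes hq Nat.prime_two).2 hq2)
      rw [hO, le_bot_iff, zpowers_eq_bot] at hle
      rw [hle, orderOf_one] at hz
      exact absurd hz.symm hq.ne_one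
  rcases subsingleton_or_nontrivial G with hsub | hnt
  · exact Subsingleton.elim _ _
  exfalso
  refine Min.false (⟨h, ih, fun K hK => ?_, hc, hN1, hN2⟩ : Min P S₁ S₂)
  by_contra hcon
  push Not at hcon
  obtain ⟨hK1, hK2⟩ := hcon
  haveI := hK
  have hmeet : ∀ (J : Subgroup G), J.Normal → J ≠ ⊥ →
      (∃ t ∈ S₁ ⊓ J, t ≠ 1) ∧ ∃ t ∈ S₂ ⊓ J, t ≠ 1 := by
    intro J hJ hJb
    haveI := hJ
    refine ⟨?_, ?_⟩ <;> by_contra! hne
    · exact hJb (le_bot_iff.1 (hc ▸ h.normal_le_center hO J hN1 ((eq_bot_iff_forall _).2 hne)))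
    · exact hJb (le_bot_iff.1 (hc ▸ h.symm.normal_le_center hO J hN2 ((eq_bot_iff_forall _).2 hne)))
  obtain ⟨⟨t₁, ht₁, ht₁1⟩, -⟩ := hmeet K hK hK1
  set M := normalClosure ({t₁} : Set G) with hM
  have hMK : M ≤ K := normalClosure_le_normal (Set.singleton_subset_iff.2 ht₁.2)
  have ht₁M : t₁ ∈ M := subset_normalClosure rfl
  obtain ⟨-, t₂, ht₂, ht₂1⟩ := hmeet M normalClosure_normal fun e => ht₁1 (by
    rw [e, Subgroup.mem_bot] at ht₁M; exact ht₁M)
  have hOK : oddCore ↥K = ⊥ := by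
    have h1 : (oddCore ↥K).map K.subtype = ⊥ := by
      rw [show oddCore ↥K = pPrimeCore 2 ↥K from rfl, Core.map_pPrimeCore_normal,
        show pPrimeCore 2 G = ⊥ from hO, bot_inf_eq]
    exact (map_eq_bot_iff_of_injective _ K.subtype_injective).1 h1
  have hcen : ∀ m ∈ M, Commute m t₂ := by
    intro m hm
    refine closure_induction (p := fun m _ => Commute m t₂) ?_ (Commute.one_left _)
      (fun _ _ _ _ hp hq => hp.mul_left hq) (fun _ _ hp => hp.inv_left)
      (show m ∈ closure (Group.conjugatesOfSet ({t₁} : Set G)) from hm)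
    intro c hc'
    obtain ⟨_, hc₀, hcon⟩ := Group.mem_conjugatesOfSet_iff.1 hc'
    rw [Set.mem_singleton_iff] at hc₀
    subst hc₀
    obtain ⟨g, rfl⟩ := isConj_iff.1 hcon
    have hm' := h.comm_mem_core ih hK2 (a := ⟨_, hK.conj_mem _ ht₁.2 g⟩) (b := ⟨t₂, hMK ht₂.2⟩)
      (cls_conj (mem_cls_of_mem ht₁.1) g) (mem_cls_of_mem ht₂.1)
    rw [hOK, Subgroup.mem_bot, commutatorElement_eq_one_iff_mul_comm] at hm'
    exact congrArg Subtype.val hm'
  obtain ⟨j, hj⟩ := isPGroup_zpowers_of_cls h.sc₂ (mem_cls_of_mem ht₂.1)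
  haveI : (zpowers (⟨t₂, ht₂.2⟩ : ↥M)).Normal := ⟨fun x hx y => by
    obtain ⟨i, rfl⟩ := mem_zpowers_iff.1 hx
    rw [((show Commute y (⟨t₂, ht₂.2⟩ : ↥M) from Subtype.ext (hcen y y.2).eq).zpow_right i).eq,
      mul_inv_cancel_right]
    exact zpow_mem (mem_zpowers _) _⟩
  have hq : t₂ ∈ pCore 2 G := by
    have h1 : (⟨t₂, ht₂.2⟩ : ↥M) ∈ pCore 2 ↥M := Core.le_pCore (IsPGroup.of_card (n := j)
      (by rw [Nat.card_zpowers, Subgroup.orderOf_mk, hj])) (mem_zpowers _)
    have h2 := mem_map_of_mem M.subtype h1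
    rw [Core.map_pCore_normal] at h2
    exact h2.1
  haveI hQn : (pCore 2 G).Normal := Core.pCore_normal
  haveI : (S₂ ⊓ pCore 2 G).Normal := ⟨fun x hx g =>
    ⟨h.sc₂.2 x hx.1 g (Core.pCore_le_sylow P (hQn.conj_mem x hx.2 g)), hQn.conj_mem x hx.2 g⟩⟩
  obtain ⟨⟨t₃, ht₃, ht₃1⟩, -⟩ := hmeet (S₂ ⊓ pCore 2 G) inferInstance fun e => ht₂1 (by
    have : t₂ ∈ S₂ ⊓ pCore 2 G := ⟨ht₂.1, hq⟩
    rwa [e, Subgroup.mem_bot] at this)
  have : t₃ ∈ S₁ ⊓ S₂ := ⟨ht₃.1, ht₃.2.1⟩
  rw [h.disj, Subgroup.mem_bot] at this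
  exact ht₃1 this

theorem ct_below : ∀ n : ℕ, CTBelow.{u} n := by
  intro n
  induction n with
  | zero => exact fun X _ _ hX => absurd hX (Nat.not_lt_zero _)
  | succ n ihn => exact fun X _ _ hX => ct_step fun Y _ _ hY => ihn Y (by omega)

/-- The commutator of conjugates of elements of two disjoint commuting strongly closed subgroups
lies in the core. -/
theorem commutator_mem_oddCore (h : Setting P S₁ S₂) {a b : G} (ha : a ∈ Cls S₁)
    (hb : b ∈ Cls S₂) : ⁅a, b⁆ ∈ oddCore G :=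
  ct_below (Nat.card G + 1) G (Nat.lt_succ_self _) P S₁ S₂ h a ha b hb

theorem commutator_normalClosure_le (h : Setting P S₁ S₂) :
    ⁅normalClosure (S₁ : Set G), normalClosure (S₂ : Set G)⁆ ≤ oddCore G := by
  haveI : (oddCore G).Normal := Core.pPrimeCore_normal
  have key : ∀ x ∈ normalClosure (S₁ : Set G), ∀ y ∈ normalClosure (S₂ : Set G),
      Commute (QuotientGroup.mk' (oddCore G) x) (QuotientGroup.mk' (oddCore G) y) := by
    intro x hx y hy
    refine closure_induction (p := fun x _ => Commute (QuotientGroup.mk' (oddCore G) x) _) ?_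
      (by rw [map_one]; exact Commute.one_left _)
      (fun _ _ _ _ hp hq => by rw [map_mul]; exact hp.mul_left hq)
      (fun _ _ hp => by rw [map_inv]; exact hp.inv_left)
      (show x ∈ closure (Group.conjugatesOfSet (S₁ : Set G)) from hx)
    intro c hc
    obtain ⟨c₀, hc₀, hcon⟩ := Group.mem_conjugatesOfSet_iff.1 hc
    obtain ⟨g, rfl⟩ := isConj_iff.1 hcon
    refine closure_induction (p := fun y _ => Commute _ (QuotientGroup.mk' (oddCore G) y)) ?_
      (by rw [map_one]; exact Commute.one_right _)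
      (fun _ _ _ _ hp hq => by rw [map_mul]; exact hp.mul_right hq)
      (fun _ _ hp => by rw [map_inv]; exact hp.inv_right)
      (show y ∈ closure (Group.conjugatesOfSet (S₂ : Set G)) from hy)
    intro d hd
    obtain ⟨d₀, hd₀, hcon'⟩ := Group.mem_conjugatesOfSet_iff.1 hd
    obtain ⟨k, rfl⟩ := isConj_iff.1 hcon'
    rw [← commutatorElement_eq_one_iff_commute, ← map_commutatorElement]
    exact (QuotientGroup.eq_one_iff _).2
      (commutator_mem_oddCore h (cls_conj (mem_cls_of_mem hc₀) g) (cls_conj (mem_cls_of_mem hd₀) k))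
  rw [commutator_le]
  intro x hx y hy
  rw [← QuotientGroup.eq_one_iff, ← QuotientGroup.mk'_apply, map_commutatorElement]
  exact commutatorElement_eq_one_iff_commute.2 (key x hx y hy)

end Cfsg.Agent.ProdFusion
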